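import Mathlib
import Cfsg.Agent.Lib.Recog.ThreePrimes
import Cfsg.Agent.Lib.Base.Cores
import Cfsg.Agent.S0144

/-!
Finite groups all of whose elements have order a power of two or a prime different from five.
-/

set_option autoImplicit false
set_option linter.style.haveILetI false
set_option linter.unusedSectionVars false

namespace CfsgLib.Recog.EPPOTwo

universe u

variable {G : Type u} [Group G]

/-- All element orders are powers of two or primes other than five. -/
def OrderHyp (G : Type*) [Group G] : Prop :=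
  ∀ g : G, g ≠ 1 → (∃ k : ℕ, orderOf g = 2 ^ k) ∨ ((orderOf g).Prime ∧ orderOf g ≠ 5)

theorem OrderHyp.subgroup (h : OrderHyp G) (K : Subgroup G) : OrderHyp K := fun g hg => by
  rw [← Subgroup.orderOf_coe]
  exact h g fun e => hg (Subtype.ext e)

theorem OrderHyp.of_surjective (h : OrderHyp G) {Q : Type*} [Group Q] (f : G →* Q)
    (hf : Function.Surjective f) : OrderHyp Q := by
  intro q hq
  obtain ⟨g, rfl⟩ := hf q
  have hd := orderOf_map_dvd f g
  rcases h g (fun e => hq (by rw [e, map_one])) with ⟨k, hk⟩ | ⟨hp, h5⟩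
  · obtain ⟨j, -, hj⟩ := (Nat.dvd_prime_pow Nat.prime_two).1 (hk ▸ hd)
    exact Or.inl ⟨j, hj⟩
  · rcases (Nat.dvd_prime hp).1 hd with e | e
    · exact absurd (orderOf_eq_one_iff.1 e) hq
    · exact Or.inr ⟨e ▸ hp, e ▸ h5⟩

/-- The order of an element divisible by an odd prime. -/
theorem OrderHyp.orderOf_eq (h : OrderHyp G) {g : G} (hg : g ≠ 1) {p : ℕ} (hp : p.Prime)
    (hp2 : p ≠ 2) (hd : p ∣ orderOf g) : orderOf g = p := by
  rcases h g hg with ⟨k, hk⟩ | ⟨hr, -⟩
  · rw [hk] at hd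
    exact absurd ((Nat.prime_dvd_prime_iff_eq hp Nat.prime_two).1 (hp.dvd_of_dvd_pow hd)) hp2
  · exact ((Nat.prime_dvd_prime_iff_eq hp hr).1 hd).symm

theorem OrderHyp.not_five_dvd [Finite G] (h : OrderHyp G) : ¬ 5 ∣ Nat.card G := fun hd => by
  haveI : Fact (Nat.Prime 5) := ⟨Nat.prime_five⟩
  obtain ⟨g, hg⟩ := exists_prime_orderOf_dvd_card' (G := G) 5 hd
  rcases h g (fun e => by rw [e, orderOf_one] at hg; omega) with ⟨k, hk⟩ | ⟨-, h5⟩
  · rw [hg] at hk
    rcases k with _ | k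
    · simp at hk
    · rw [pow_succ] at hk; omega
  · exact h5 hg

/-- The centralizer of an element of odd prime order has exponent that prime. -/
theorem OrderHyp.pow_eq_one (h : OrderHyp G) {x y : G} {p : ℕ} (hp : p.Prime) (hp2 : p ≠ 2)
    (hx : orderOf x = p) (hc : Commute x y) : y ^ p = 1 := by
  by_contra hy
  have hy1 : y ≠ 1 := fun e => hy (by rw [e, one_pow])
  have hndvd : ¬ p ∣ orderOf y := fun hd => hy (by
    rw [← h.orderOf_eq hy1 hp hp2 hd, pow_orderOf_eq_one])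
  have ho := hc.orderOf_mul_eq_mul_orderOf_of_coprime
    (by rw [hx]; exact hp.coprime_iff_not_dvd.2 hndvd)
  rw [hx] at ho
  have hxy : x * y ≠ 1 := fun e => by
    rw [e, orderOf_one] at ho
    have := hp.one_lt
    exact absurd (Nat.eq_one_of_mul_eq_one_right ho.symm) (by omega)
  have := h.orderOf_eq hxy hp hp2 (ho ▸ dvd_mul_right p _)
  rw [ho] at this
  have h1 : orderOf y = 1 := Nat.eq_of_mul_eq_mul_left hp.pos (this.trans (mul_one p).symm)
  exact hy1 (orderOf_eq_one_iff.1 h1)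

/-- An element commuting with an involution is a `2`-element. -/
theorem OrderHyp.two_element (h : OrderHyp G) {t y : G} (ht : orderOf t = 2) (hc : Commute t y) :
    ∃ k : ℕ, y ^ 2 ^ k = 1 := by
  rcases eq_or_ne y 1 with rfl | hy
  · exact ⟨0, one_pow _⟩
  rcases h y hy with ⟨k, hk⟩ | ⟨hp, -⟩
  · exact ⟨k, hk ▸ pow_orderOf_eq_one y⟩
  · by_cases h2 : orderOf y = 2
    · exact ⟨1, by rw [pow_one, ← h2, pow_orderOf_eq_one]⟩
    · have ht2 := h.pow_eq_one hp h2 rfl hc.symm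
      have := orderOf_dvd_of_pow_eq_one ht2
      rw [ht] at this
      exact absurd ((Nat.prime_dvd_prime_iff_eq Nat.prime_two hp).1 this).symm h2

/-- Fixed-point-freeness of odd primes on `2`-elements. -/
theorem OrderHyp.eq_one_of_commute (h : OrderHyp G) {x a : G} {p : ℕ} (hp : p.Prime) (hp2 : p ≠ 2)
    (hx : orderOf x = p) (ha : ∃ k : ℕ, a ^ 2 ^ k = 1) (hc : Commute x a) : a = 1 := by
  obtain ⟨k, hk⟩ := ha
  have h1 := h.pow_eq_one hp hp2 hx hc
  have hco : Nat.Coprime (2 ^ k) p :=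
    Nat.Coprime.pow_left k ((Nat.coprime_primes Nat.prime_two hp).2 (Ne.symm hp2))
  rw [← pow_one a, ← hco.gcd_eq_one]
  exact pow_gcd_eq_one.2 ⟨hk, h1⟩

/-- A subgroup centralizing an involution is a `2`-group. -/
theorem OrderHyp.isPGroup_centralizer (h : OrderHyp G) {S : Set G} {t : G} (ht : orderOf t = 2)
    (htS : t ∈ S) : IsPGroup 2 (Subgroup.centralizer S) := fun y => by
  obtain ⟨k, hk⟩ := h.two_element ht (Subgroup.mem_centralizer_iff.1 y.2 t htS)
  exact ⟨k, Subtype.ext hk⟩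

/-- A group with at most two prime divisors is solvable. -/
theorem isSolvable_of_card_primeFactors_le_two [Finite G]
    (h : (Nat.card G).primeFactors.card ≤ 2) : Group.IsSolvable G := by
  have hn : Nat.card G ≠ 0 := Nat.card_pos.ne'
  have hprod := Nat.prod_factorization_pow_eq_self hn
  rw [Nat.prod_factorization_eq_prod_primeFactors] at hprod
  obtain ⟨p, q, a, b, hp, hq, hc⟩ : ∃ p q a b : ℕ, p.Prime ∧ q.Prime ∧
      Nat.card G = p ^ a * q ^ b := by
    rcases (show (Nat.card G).primeFactors.card = 0 ∨ (Nat.card G).primeFactors.card = 1 ∨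
      (Nat.card G).primeFactors.card = 2 by omega) with h0 | h1 | h2
    · rw [Finset.card_eq_zero.1 h0, Finset.prod_empty] at hprod
      exact ⟨2, 3, 0, 0, Nat.prime_two, Nat.prime_three, by simpa using hprod.symm⟩
    · obtain ⟨p, hp⟩ := Finset.card_eq_one.1 h1
      rw [hp, Finset.prod_singleton] at hprod
      refine ⟨p, 2, (Nat.card G).factorization p, 0,
        Nat.prime_of_mem_primeFactors (hp ▸ Finset.mem_singleton_self p),
        Nat.prime_two, by rw [pow_zero, mul_one]; exact hprod.symm⟩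
    · obtain ⟨p, q, hpq, hpq'⟩ := Finset.card_eq_two.1 h2
      rw [hpq', Finset.prod_pair hpq] at hprod
      have hp : p ∈ (Nat.card G).primeFactors := by rw [hpq']; simp
      have hq : q ∈ (Nat.card G).primeFactors := by rw [hpq']; simp
      exact ⟨p, q, _, _, Nat.prime_of_mem_primeFactors hp, Nat.prime_of_mem_primeFactors hq,
        hprod.symm⟩
  exact Cfsg.Agent.S0144.result p q a b hp hq hc

/-- Three distinct members of a finite set. -/
theorem exists_three {s : Finset ℕ} (h : 3 ≤ s.card) :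
    ∃ a b c, a ∈ s ∧ b ∈ s ∧ c ∈ s ∧ a ≠ b ∧ a ≠ c ∧ b ≠ c :=
  let ⟨a, b, c, ha, hb, hc, hab, hac, hbc⟩ := Finset.two_lt_card_iff.1 h
  ⟨a, b, c, ha, hb, hc, hab, hac, hbc⟩

/-- A solvable group under the hypothesis has at most two prime divisors. -/
theorem OrderHyp.primeFactors_le_two [Finite G] (h : OrderHyp G) (hs : Group.IsSolvable G) :
    (Nat.card G).primeFactors.card ≤ 2 := by
  by_contra hlt
  obtain ⟨r, s, t, hr, hs', ht, hrs, hrt, hst⟩ := exists_three (s := (Nat.card G).primeFactors)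
    (by omega)
  have key : ∀ a b : ℕ, a.Prime → b.Prime → a ≠ b → ∀ g : G, orderOf g ≠ a * b := by
    intro a b ha hb hab g hg
    have hg1 : g ≠ 1 := fun e => by
      rw [e, orderOf_one] at hg
      exact ha.one_lt.ne' (Nat.eq_one_of_mul_eq_one_right hg.symm)
    wlog ha2 : a ≠ 2 generalizing a b
    · exact this b a hb ha hab.symm (by rw [hg, mul_comm]) (fun e => hab ((not_not.1 ha2).trans e.symm))
    have := h.orderOf_eq hg1 ha ha2 (hg ▸ dvd_mul_right a b)
    rw [hg] at this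
    have h1 : b = 1 := Nat.eq_of_mul_eq_mul_left ha.pos (this.trans (mul_one a).symm)
    exact hb.one_lt.ne' h1
  obtain ⟨hr1, hr2, -⟩ := Nat.mem_primeFactors.1 hr
  obtain ⟨hs1, hs2, -⟩ := Nat.mem_primeFactors.1 hs'
  obtain ⟨ht1, ht2, -⟩ := Nat.mem_primeFactors.1 ht
  rcases adjacent_of_isSolvable hs hr1 hs1 ht1 hrs hrt hst hr2 hs2 ht2 with
    ⟨g, hg⟩ | ⟨g, hg⟩ | ⟨g, hg⟩
  · exact key r s hr1 hs1 hrs g hg
  · exact key r t hr1 ht1 hrt g hg
  · exact key s t hs1 ht1 hst g hg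

/-- A `2`-element. -/
def IsTwo (g : G) : Prop := ∃ k : ℕ, g ^ 2 ^ k = 1

/-- The `2`-elements of the subgroup form a subgroup. -/
def TwoClosed (K : Subgroup G) : Prop :=
  ∀ a ∈ K, ∀ b ∈ K, IsTwo a → IsTwo b → IsTwo (a * b)

theorem TwoClosed.mono {K M : Subgroup G} (h : TwoClosed M) (hle : K ≤ M) : TwoClosed K :=
  fun a ha b hb => h a (hle ha) b (hle hb)

/-- The largest normal `2`-subgroup, inside the ambient group. -/
abbrev O2 (K : Subgroup G) : Subgroup G := (Cfsg.pCore 2 K).map K.subtype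

theorem O2_le (K : Subgroup G) : O2 K ≤ K := Subgroup.map_subtype_le _

theorem isTwo_of_mem {Q : Subgroup G} (hQ : IsPGroup 2 Q) {g : G} (hg : g ∈ Q) : IsTwo g := by
  obtain ⟨k, hk⟩ := hQ ⟨g, hg⟩
  exact ⟨k, congrArg Subtype.val hk⟩

theorem isPGroup_of_isTwo {Q : Subgroup G} (h : ∀ g ∈ Q, IsTwo g) : IsPGroup 2 Q := fun g => by
  obtain ⟨k, hk⟩ := h g g.2
  exact ⟨k, Subtype.ext hk⟩

theorem TwoClosed.of_O2 {K : Subgroup G} (h : ∀ g ∈ K, IsTwo g → g ∈ O2 K) : TwoClosed K :=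
  fun a ha b hb ha2 hb2 => isTwo_of_mem (Base.isPGroup_map_pCore 2 K)
    (mul_mem (h a ha ha2) (h b hb hb2))

theorem TwoClosed.mem_O2 {K : Subgroup G} (h : TwoClosed K) {g : G} (hg : g ∈ K) (hg2 : IsTwo g) :
    g ∈ O2 K := by
  have hinv : ∀ a : G, IsTwo a → IsTwo a⁻¹ := fun a ⟨k, hk⟩ => ⟨k, by rw [inv_pow, hk, inv_one]⟩
  let Q : Subgroup G :=
    { carrier := {a | a ∈ K ∧ IsTwo a}
      one_mem' := ⟨one_mem K, 0, one_pow _⟩
      mul_mem' := fun {a b} ha hb => ⟨mul_mem ha.1 hb.1, h a ha.1 b hb.1 ha.2 hb.2⟩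
      inv_mem' := fun {a} ha => ⟨inv_mem ha.1, hinv a ha.2⟩ }
  refine Base.le_map_pCore (M := Q) (fun a ha => ha.1) (fun k hk => ?_)
    (isPGroup_of_isTwo fun a ha => ha.2) ⟨hg, hg2⟩
  refine Subgroup.mem_normalizer_iff.2 fun a => ⟨fun ha => ?_, fun ha => ?_⟩
  · obtain ⟨j, hj⟩ := ha.2
    exact ⟨mul_mem (mul_mem hk ha.1) (inv_mem hk), j, by rw [conj_pow, hj, mul_one, mul_inv_cancel]⟩
  · obtain ⟨j, hj⟩ := ha.2
    rw [conj_pow] at hj
    refine ⟨?_, j, ?_⟩
    · have := mul_mem (mul_mem (inv_mem hk) ha.1) hk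
      simpa [mul_assoc] using this
    · simpa [mul_inv_eq_one] using hj

end CfsgLib.Recog.EPPOTwo
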