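import Cfsg.Agent.Lib.Recog.EPPOTwo.Locals

/-!
Maximal not 2-closed subgroups with a nontrivial normal 2-subgroup: their Sylow 2-subgroups are
Sylow in the whole group and determine them, unless there is a self-centralising four-group.
-/

set_option autoImplicit false
set_option linter.style.haveILetI false
set_option linter.unusedSectionVars false

namespace CfsgLib.Recog.EPPOTwo

open scoped commutatorElement

universe u

variable {G : Type u} [Group G]

/-- The situation of a minimal counterexample. -/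
structure Ctx (G : Type u) [Group G] : Prop where
  hyp : OrderHyp G
  simple : IsSimpleGroup G
  three : 3 ≤ (Nat.card G).primeFactors.card
  solv : ∀ K : Subgroup G, O2 K ≠ ⊥ → Group.IsSolvable K

/-- A maximal member of the set of relevant subgroups. -/
structure Loc (M : Subgroup G) : Prop where
  nt : O2 M ≠ ⊥
  ncl : ¬ TwoClosed M
  max : ∀ K : Subgroup G, M ≤ K → O2 K ≠ ⊥ → K = M

/-- A Sylow 2-subgroup of a subgroup. -/
structure TSyl (M T : Subgroup G) : Prop where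
  le : T ≤ M
  isP : IsPGroup 2 T
  max : ∀ Q : Subgroup G, IsPGroup 2 Q → T ≤ Q → Q ≤ M → Q = T

/-- A maximal 2-subgroup of the whole group. -/
def IsFullTwo (S : Subgroup G) : Prop :=
  IsPGroup 2 S ∧ ∀ Q : Subgroup G, IsPGroup 2 Q → S ≤ Q → Q = S

/-- A self-centralising subgroup of order at most four with an element of order three. -/
def SmallFour (G : Type u) [Group G] : Prop :=
  ∃ (D : Subgroup G) (x : G), IsPGroup 2 D ∧ D ≠ ⊥ ∧ Nat.card D ≤ 4 ∧
    Subgroup.centralizer (D : Set G) ≤ D ∧ orderOf x = 3 ∧ ∀ e ∈ D, x * e * x⁻¹ ∈ D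

variable [Finite G]

theorem exists_loc_ge {K : Subgroup G} (hnt : O2 K ≠ ⊥) (hncl : ¬ TwoClosed K) :
    ∃ M, K ≤ M ∧ Loc M := by
  obtain ⟨M, hle, hmax⟩ :=
    Finite.exists_le_maximal (p := fun L : Subgroup G => O2 L ≠ ⊥ ∧ ¬ TwoClosed L) ⟨hnt, hncl⟩
  exact ⟨M, hle, hmax.prop.1, hmax.prop.2, fun L hL hLnt =>
    le_antisymm (hmax.2 ⟨hLnt, fun hc => hmax.prop.2 (hc.mono hL)⟩ hL) hL⟩

theorem Loc.pre {M : Subgroup G} (hc : Ctx G) (hM : Loc M) : Pre M :=
  ⟨hM.nt, hM.ncl, hc.solv M hM.nt⟩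

theorem Loc.normalizer_eq {M P : Subgroup G} (hM : Loc M) (hP : IsPGroup 2 P) (hne : P ≠ ⊥)
    (hn : M ≤ Subgroup.normalizer (P : Set G)) : Subgroup.normalizer (P : Set G) = M :=
  hM.max _ hn fun h => hne (le_bot_iff.1 (h ▸ Base.le_map_pCore Subgroup.le_normalizer le_rfl hP))

theorem Loc.normalizer_O2 {M : Subgroup G} (hM : Loc M) :
    Subgroup.normalizer (O2 M : Set G) = M :=
  hM.normalizer_eq (Base.isPGroup_map_pCore 2 M) hM.nt (Base.le_normalizer_map_pCore M)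

theorem Loc.mem_of_conj {M : Subgroup G} (hM : Loc M) {g : G}
    (h : (O2 M).map (MulAut.conj g).toMonoidHom = O2 M) : g ∈ M := by
  rw [← hM.normalizer_O2]
  refine Subgroup.mem_normalizer_iff.2 fun e => ⟨fun he => h ▸ ⟨e, he, rfl⟩, fun he => ?_⟩
  rw [← h] at he
  obtain ⟨e', he', hee⟩ := he
  simp only [MulEquiv.coe_toMonoidHom, MulAut.conj_apply] at hee
  rwa [← mul_left_cancel (mul_right_cancel hee)]

theorem Loc.centralizer_le {M : Subgroup G} (hc : Ctx G) (hM : Loc M) :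
    Subgroup.centralizer (O2 M : Set G) ≤ O2 M := by
  obtain ⟨t, htD, ht⟩ := exists_involution (Base.isPGroup_map_pCore 2 M) hM.nt
  refine Base.le_map_pCore (fun c hcc => hM.normalizer_O2.le ?_) (fun m hm => ?_)
    (hc.hyp.isPGroup_centralizer ht htD)
  · refine Subgroup.mem_normalizer_iff.2 fun e => ⟨fun he => ?_, fun he => ?_⟩
    · rwa [← (Subgroup.mem_centralizer_iff.1 hcc e he), mul_inv_cancel_right]
    · have h1 := Subgroup.mem_centralizer_iff.1 hcc _ he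
      rw [show c * e * c⁻¹ * c = c * e by group] at h1
      rwa [show e = c * e * c⁻¹ from mul_left_cancel h1]
  · refine Subgroup.mem_normalizer_iff.2 fun c => ⟨fun hcc => ?_, fun hcc => ?_⟩ <;>
      refine Subgroup.mem_centralizer_iff.2 fun e he => ?_
    · have h1 := Subgroup.mem_centralizer_iff.1 hcc _ (conj_mem_O2' hm he)
      calc e * (m * c * m⁻¹) = m * ((m⁻¹ * e * m) * c) * m⁻¹ := by group
        _ = m * (c * (m⁻¹ * e * m)) * m⁻¹ := by rw [h1]
        _ = _ := by group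
    · have h1 := Subgroup.mem_centralizer_iff.1 hcc _ (conj_mem_O2 hm he)
      calc e * c = m⁻¹ * ((m * e * m⁻¹) * (m * c * m⁻¹)) * m := by group
        _ = m⁻¹ * ((m * c * m⁻¹) * (m * e * m⁻¹)) * m := by rw [h1]
        _ = _ := by group

theorem exists_tsyl {M P : Subgroup G} (hle : P ≤ M) (hP : IsPGroup 2 P) :
    ∃ T, P ≤ T ∧ TSyl M T := by
  obtain ⟨T, hPT, hmax⟩ :=
    Finite.exists_le_maximal (p := fun Q : Subgroup G => IsPGroup 2 Q ∧ Q ≤ M) ⟨hP, hle⟩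
  exact ⟨T, hPT, hmax.prop.2, hmax.prop.1, fun Q hQ hTQ hQM =>
    le_antisymm (hmax.2 ⟨hQ, hQM⟩ hTQ) hTQ⟩

variable {M T : Subgroup G}

theorem TSyl.O2_le (hT : TSyl M T) : O2 M ≤ T := by
  have h := hT.max _ (hT.isP.to_sup_of_normal_right' (Base.isPGroup_map_pCore 2 M)
    (hT.le.trans (Base.le_normalizer_map_pCore M))) le_sup_left (sup_le hT.le (EPPOTwo.O2_le M))
  exact h ▸ le_sup_right

theorem TSyl.proper (hT : TSyl M T) (hM : ¬ TwoClosed M) : ∃ t ∈ T, t ∉ O2 M := by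
  by_contra hall
  push Not at hall
  refine hM (TwoClosed.of_O2 fun a ha ⟨k, hk⟩ => ?_)
  have hP : IsPGroup 2 (Subgroup.zpowers a) := by
    rintro ⟨b, hb⟩
    obtain ⟨i, rfl⟩ := Subgroup.mem_zpowers_iff.1 hb
    refine ⟨k, Subtype.ext ?_⟩
    show (a ^ i) ^ 2 ^ k = 1
    rw [← zpow_natCast, ← zpow_mul, mul_comm, zpow_mul, zpow_natCast, hk, one_zpow]
  have h := hT.max _ (hP.to_sup_of_normal_right' (Base.isPGroup_map_pCore 2 M)
    ((Subgroup.zpowers_le.2 ha).trans (Base.le_normalizer_map_pCore M)))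
    (le_trans (fun t ht => hall t ht) le_sup_right)
    (sup_le (Subgroup.zpowers_le.2 ha) (EPPOTwo.O2_le M))
  exact hall a (h ▸ (le_sup_left : _ ≤ Subgroup.zpowers a ⊔ O2 M) (Subgroup.mem_zpowers a))

theorem exists_descend {D : Subgroup G} {P : G → Prop} (hP : ∀ a, P a → P (a * a)) :
    ∀ {t : G}, IsTwo t → t ∉ D → P t → ∃ t', IsTwo t' ∧ t' ∉ D ∧ t' * t' ∈ D ∧ P t' := by
  rintro t ⟨k, hk⟩
  induction k generalizing t with
  | zero =>
    rw [pow_zero, pow_one] at hk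
    subst hk
    exact fun h _ => absurd (one_mem D) h
  | succ k ih =>
    intro ht hPt
    by_cases htt : t * t ∈ D
    · exact ⟨t, ⟨k + 1, hk⟩, ht, htt, hPt⟩
    · exact ih (by rw [← pow_two, ← pow_mul, ← pow_succ']; exact hk) htt (hP t hPt)

variable {x : G} {p : ℕ}

theorem conj_mem_centralizer (hm : x ∈ M) {v : G} (hv : v ∈ OZ (O2 M)) :
    x * v * x⁻¹ ∈ OZ (O2 M) := conj_mem_OZ hm hv

theorem eq_of_centralizes (hc : Ctx G) (hM : Loc M) (c : Core M x p) (hT : TSyl M T) {t : G}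
    (ht : t ∈ T) (h : ∀ v ∈ OZ (O2 M), Commute t v) : t ∈ O2 M := by
  by_contra htD
  obtain ⟨t', ht'2, ht'D, htt, ht'T, h'⟩ := exists_descend (D := O2 M)
    (P := fun a => a ∈ T ∧ ∀ v ∈ OZ (O2 M), Commute a v)
    (fun a ha => ⟨mul_mem ha.1 ha.1, fun v hv => (ha.2 v hv).mul_left (ha.2 v hv)⟩)
    (isTwo_of_mem hT.isP ht) htD ⟨ht, h⟩
  obtain ⟨v, hv, hv1⟩ := (hM.pre hc).exists_inv_mem
  exact hv1 (c.fixed_pair hc.hyp (hT.le ht'T) ht'2 ht'D htt (mem_OZ.1 hv).1 (h' v hv)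
    (h' _ (conj_mem_OZ c.mem hv)))

theorem card_fixed_sq (hc : Ctx G) (c : Core M x p) {t : G} (ht : t ∈ M) (ht2 : IsTwo t)
    (htD : t ∉ O2 M) (htt : t * t ∈ O2 M) :
    Nat.card ↥(OZ (O2 M) ⊓ Subgroup.centralizer {t}) *
      Nat.card ↥(OZ (O2 M) ⊓ Subgroup.centralizer {t}) ≤ Nat.card (OZ (O2 M)) := by
  set C := OZ (O2 M) ⊓ Subgroup.centralizer ({t} : Set G) with hC
  have hCc : ∀ {a}, a ∈ C → Commute t a := fun {a} ha =>
    (Subgroup.mem_centralizer_singleton_iff.1 ha.2).symm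
  rw [← Nat.card_prod]
  refine Nat.card_le_card_of_injective (fun q : C × C => (⟨(q.1 : G) * (x * q.2 * x⁻¹),
    mul_mem q.1.2.1 (conj_mem_OZ c.mem q.2.2.1)⟩ : OZ (O2 M))) ?_
  rintro ⟨a, b⟩ ⟨a', b'⟩ hab
  have h1 : (a : G) * (x * b * x⁻¹) = (a' : G) * (x * b' * x⁻¹) := congrArg Subtype.val hab
  have h2 : (a' : G)⁻¹ * a = x * ((b' : G) * (b : G)⁻¹) * x⁻¹ := by
    calc (a' : G)⁻¹ * a = (a' : G)⁻¹ * (a * (x * b * x⁻¹)) * (x * (b : G)⁻¹ * x⁻¹) := by group
      _ = _ := by rw [h1]; group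
  have hbb : (b' : G) * (b : G)⁻¹ ∈ C := mul_mem b'.2 (inv_mem b.2)
  have haa : (a' : G)⁻¹ * a ∈ C := mul_mem (inv_mem a'.2) a.2
  have h3 := c.fixed_pair hc.hyp ht ht2 htD htt (mem_OZ.1 hbb.1).1 (hCc hbb) (h2 ▸ hCc haa)
  rw [h3, mul_one, mul_inv_cancel] at h2
  exact Prod.ext (Subtype.ext (inv_mul_eq_one.1 h2).symm) (Subtype.ext (mul_inv_eq_one.1 h3).symm)

/-- The order of the module. -/
theorem two_pow_card (hc : Ctx G) (hM : Loc M) (c : Core M x p) :
    ∃ n, Nat.card (OZ (O2 M)) = 2 ^ n ∧ 1 ≤ n ∧ p ∣ 2 ^ n - 1 := by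
  haveI : Fact (Nat.Prime 2) := ⟨Nat.prime_two⟩
  haveI : Fact p.Prime := ⟨c.prime⟩
  have hV : IsPGroup 2 (OZ (O2 M)) :=
    (Base.isPGroup_map_pCore 2 M).to_le fun v hv => (mem_ZC.1 (mem_OZ.1 hv).1).1
  obtain ⟨n, hn⟩ := hV.exists_card_eq
  have hne : OZ (O2 M) ≠ ⊥ := fun e => by
    obtain ⟨v, hv, hv1⟩ := (hM.pre hc).exists_inv_mem
    rw [e, Subgroup.mem_bot] at hv
    exact hv1 hv
  refine ⟨n, hn, ?_, ?_⟩
  · by_contra h0
    rw [show n = 0 by omega, pow_zero] at hn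
    exact hne (Subgroup.eq_bot_of_card_eq _ hn)
  · have hP : IsPGroup p (Subgroup.zpowers x) :=
      IsPGroup.of_card (n := 1) (by rw [Nat.card_zpowers, c.ord, pow_one])
    have hN : Subgroup.zpowers x ≤ Subgroup.normalizer (OZ (O2 M) : Set G) := by
      refine Subgroup.zpowers_le.2 (Subgroup.mem_normalizer_iff.2 fun v =>
        ⟨fun hv => conj_mem_OZ c.mem hv, fun hv => ?_⟩)
      have := conj_mem_OZ (inv_mem c.mem) hv
      simpa [mul_assoc] using this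
    have := (hc.hyp.isFPF c.prime c.odd hP hV hN).card_dvd
    rwa [Nat.card_zpowers, c.ord, hn] at this

theorem idx_of_three (c : Core M x p) (hp : p = 3) (hT : TSyl M T) :
    ∀ a ∈ T, ∀ b ∈ T, a ∉ O2 M → b ∉ O2 M → a * b ∈ O2 M := fun a ha b hb ha' hb' =>
  c.pair a (hT.le ha) b (hT.le hb) (isTwo_of_mem hT.isP ha) (isTwo_of_mem hT.isP hb)
    (isTwo_of_mem hT.isP (mul_mem ha hb)) ha' hb'
    (c.three hp a (hT.le ha) (isTwo_of_mem hT.isP ha))
    (c.three hp b (hT.le hb) (isTwo_of_mem hT.isP hb))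

/-- A small module gives a side of an amalgam. -/
theorem side_of_card_le (hc : Ctx G) (hM : Loc M) (c : Core M x p) (hT : TSyl M T)
    (hV : Nat.card (OZ (O2 M)) ≤ 4) : Side T (O2 M) x := by
  obtain ⟨n, hn, hn1, hdvd⟩ := two_pow_card hc hM c
  have hn2 : n ≤ 2 := (Nat.pow_le_pow_iff_right (by norm_num : 1 < 2)).1 (hn ▸ hV)
  have hp : p = 3 := by
    rcases (show n = 1 ∨ n = 2 by omega) with rfl | rfl
    · exact absurd (Nat.dvd_one.1 (by simpa using hdvd)) c.prime.one_lt.ne'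
    · exact (Nat.prime_dvd_prime_iff_eq c.prime Nat.prime_three).1 (by simpa using hdvd)
  exact
    { pD := Base.isPGroup_map_pCore 2 M
      le := hT.O2_le
      idx := idx_of_three c hp hT
      proper := hT.proper hM.ncl
      ord := hp ▸ c.ord
      norm := fun e he => conj_mem_O2 c.mem he
      inv := fun t ht htD => c.inv t (hT.le ht) (isTwo_of_mem hT.isP ht) htD
        (c.three hp t (hT.le ht) (isTwo_of_mem hT.isP ht))
      four := hV
      cent := fun t ht htD => by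
        by_contra hall
        push Not at hall
        exact htD (eq_of_centralizes hc hM c hT ht hall) }

theorem smallFour_of_side (hc : Ctx G) (hM : Loc M) (s : Side T (O2 M) x)
    (h4 : Nat.card (O2 M) ≤ 4) : SmallFour G :=
  ⟨O2 M, x, s.pD, hM.nt, h4, hM.centralizer_le hc, s.ord, s.norm⟩

/-- Elementary abelian subgroups. -/
def Elem (T A : Subgroup G) : Prop := A ≤ T ∧ ∀ a ∈ A, a * a = 1

/-- Elementary abelian subgroups of largest order. -/
def MaxEl (T A : Subgroup G) : Prop :=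
  Elem T A ∧ ∀ B, Elem T B → Nat.card B ≤ Nat.card A

/-- The subgroup generated by the elementary abelian subgroups of largest order. -/
def JE (T : Subgroup G) : Subgroup G := sSup {A | MaxEl T A}

theorem Elem.comm {A : Subgroup G} (h : Elem T A) {a b : G} (ha : a ∈ A) (hb : b ∈ A) :
    Commute a b := by
  have h1 := h.2 _ (mul_mem ha hb)
  calc a * b = (a * b)⁻¹ := eq_inv_of_mul_eq_one_left h1
    _ = b⁻¹ * a⁻¹ := mul_inv_rev _ _
    _ = b * a := by rw [inv_eq_of_mul_eq_one_right (h.2 b hb), inv_eq_of_mul_eq_one_right (h.2 a ha)]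

theorem exists_maxEl (T : Subgroup G) : ∃ A, MaxEl T A := by
  obtain ⟨A, hA, hmax⟩ := Set.exists_max_image {A | Elem T A} (fun A => Nat.card A) (Set.toFinite _)
    ⟨⊥, bot_le, fun a ha => by rw [Subgroup.mem_bot.1 ha, mul_one]⟩
  exact ⟨A, hA, hmax⟩

theorem zpowers_elem {a : G} (ha : a ∈ T) (h : a * a = 1) : Elem T (Subgroup.zpowers a) := by
  refine ⟨Subgroup.zpowers_le.2 ha, fun b hb => ?_⟩
  obtain ⟨i, rfl⟩ := Subgroup.mem_zpowers_iff.1 hb
  rw [← (Commute.refl a).mul_zpow, h, one_zpow]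

theorem JE_le (T : Subgroup G) : JE T ≤ T := sSup_le fun _ hA => hA.1.1

theorem JE_ne_bot (hT : IsPGroup 2 T) (hne : T ≠ ⊥) : JE T ≠ ⊥ := by
  intro hJ
  obtain ⟨t, ht, hto⟩ := exists_involution hT hne
  obtain ⟨A, hA⟩ := exists_maxEl T
  have h1 := hA.2 _ (zpowers_elem ht (sq_eq_one_of_orderOf hto))
  rw [le_bot_iff.1 (hJ ▸ le_sSup hA : A ≤ ⊥), Subgroup.card_bot, Nat.card_zpowers, hto] at h1
  omega

theorem mem_normalizer_JE {g : G}
    (h : ∀ A, MaxEl T A → A.map (MulAut.conj g).toMonoidHom ≤ T)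
    (h' : ∀ A, MaxEl T A → A.map (MulAut.conj g⁻¹).toMonoidHom ≤ T) :
    g ∈ Subgroup.normalizer (JE T : Set G) := by
  have key : ∀ g : G, (∀ A, MaxEl T A → A.map (MulAut.conj g).toMonoidHom ≤ T) →
      ∀ e ∈ JE T, g * e * g⁻¹ ∈ JE T := by
    intro g hg e he
    have hle : (JE T).map (MulAut.conj g).toMonoidHom ≤ JE T := by
      rw [JE, Subgroup.map_le_iff_le_comap]
      refine sSup_le fun A hA => Subgroup.map_le_iff_le_comap.1 (le_sSup ?_)
      refine ⟨⟨hg A hA, ?_⟩, fun B hB => ?_⟩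
      · rintro _ ⟨a, ha, rfl⟩
        rw [← map_mul, hA.1.2 a ha, map_one]
      · rw [Subgroup.card_map_of_injective (MulEquiv.injective _)]
        exact hA.2 B hB
    exact hle ⟨e, he, rfl⟩
  refine Subgroup.mem_normalizer_iff.2 fun e => ⟨key g h e, fun he => ?_⟩
  have := key g⁻¹ h' _ he
  simpa [mul_assoc] using this

theorem normalizer_le_normalizer_JE (T : Subgroup G) :
    Subgroup.normalizer (T : Set G) ≤ Subgroup.normalizer (JE T : Set G) := by
  intro g hg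
  refine mem_normalizer_JE (fun A hA => ?_) (fun A hA => ?_) <;> rintro _ ⟨a, ha, rfl⟩
  · exact (Subgroup.mem_normalizer_iff.1 hg a).1 (hA.1.1 ha)
  · exact (Subgroup.mem_normalizer_iff.1 (inv_mem hg) a).1 (hA.1.1 ha)

/-- The first alternative. -/
def CaseA (M T : Subgroup G) : Prop := ∀ A, MaxEl T A → A ≤ O2 M

theorem CaseA.normalizer_eq (hA : CaseA M T) (hM : Loc M) (hT : TSyl M T) :
    Subgroup.normalizer (JE T : Set G) = M := by
  have hne : T ≠ ⊥ := fun e => hM.nt (le_bot_iff.1 (e ▸ hT.O2_le))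
  refine hM.normalizer_eq (hT.isP.to_le (JE_le T)) (JE_ne_bot hT.isP hne) fun m hm => ?_
  refine mem_normalizer_JE (fun A hAm => ?_) (fun A hAm => ?_) <;> rintro _ ⟨a, ha, rfl⟩
  · exact hT.O2_le (conj_mem_O2 hm (hA A hAm ha))
  · exact hT.O2_le (conj_mem_O2 (inv_mem hm) (hA A hAm ha))

theorem card_mul_card_le {P Q R : Subgroup G} (hP : P ≤ R) (hQ : Q ≤ R) :
    Nat.card P * Nat.card Q ≤ Nat.card ↥(P ⊓ Q) * Nat.card R := by
  have hb : ∀ {H K : Subgroup G}, H ≤ K → Nat.card H * H.relIndex K = Nat.card K := fun {H K} h => by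
    have := Subgroup.relIndex_mul_relIndex (⊥ : Subgroup G) H K bot_le h
    rwa [Subgroup.relIndex_bot_left, Subgroup.relIndex_bot_left] at this
  have hne : Q.relIndex R ≠ 0 := fun e => by
    have h1 := hb hQ
    rw [e, mul_zero] at h1
    exact (Nat.card_pos (α := R)).ne h1
  have h2 : (P ⊓ Q).relIndex P ≤ Q.relIndex R := by
    rw [inf_comm, Subgroup.inf_relIndex_right]
    exact Subgroup.relIndex_le_of_le_right hP hne
  rw [← hb (inf_le_left : P ⊓ Q ≤ P), ← hb hQ]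
  calc Nat.card ↥(P ⊓ Q) * (P ⊓ Q).relIndex P * Nat.card Q
      ≤ Nat.card ↥(P ⊓ Q) * Q.relIndex R * Nat.card Q :=
        Nat.mul_le_mul_right _ (Nat.mul_le_mul_left _ h2)
    _ = _ := by ring

theorem card_le_four_of_not_caseA (hc : Ctx G) (hM : Loc M) (c : Core M x p) (hT : TSyl M T)
    (hA : ¬ CaseA M T) : Nat.card (OZ (O2 M)) ≤ 4 := by
  classical
  obtain ⟨A, hAm, hnle⟩ : ∃ A, MaxEl T A ∧ ¬ A ≤ O2 M := by
    by_contra hall
    push Not at hall
    exact hA hall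
  obtain ⟨a, haA, haD⟩ := SetLike.not_le_iff_exists.1 hnle
  set D := O2 M with hD
  have hsq : ∀ b ∈ A, b * b ∈ D := fun b hb => by rw [hAm.1.2 b hb]; exact one_mem _
  have hAD : ∀ b ∈ A, b ∉ D → a * b ∈ D := fun b hb hbD =>
    c.pair a (hT.le (hAm.1.1 haA)) b (hT.le (hAm.1.1 hb)) (isTwo_of_sq (hAm.1.2 a haA))
      (isTwo_of_sq (hAm.1.2 b hb)) (isTwo_of_sq (hAm.1.2 _ (mul_mem haA hb))) haD hbD
      (hsq a haA) (hsq b hb)
  set A₀ := A ⊓ D with hA₀
  have hA2 : Nat.card A ≤ 2 * Nat.card A₀ := by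
    let f : A → Bool × A₀ := fun b => if hb : (b : G) ∈ D then (true, ⟨b, b.2, hb⟩)
      else (false, ⟨a * b, mul_mem haA b.2, hAD b b.2 hb⟩)
    have hf : Function.Injective f := by
      intro b b' hbb
      simp only [f] at hbb
      split_ifs at hbb
      · exact Subtype.ext (congrArg (fun z : Bool × A₀ => (z.2 : G)) hbb)
      · simp at hbb
      · simp at hbb
      · exact Subtype.ext (mul_left_cancel (congrArg (fun z : Bool × A₀ => (z.2 : G)) hbb))
    have h := Nat.card_le_card_of_injective f hf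
    rwa [Nat.card_prod, show Nat.card Bool = 2 by simp] at h
  set V := OZ D with hV
  have hcomm : ∀ u ∈ A₀, ∀ v ∈ V, Commute u v := fun u hu v hv =>
    (mem_ZC.1 (mem_OZ.1 hv).1).2 u hu.2
  let R : Subgroup G :=
    { carrier := {g | ∃ u ∈ A₀, ∃ v ∈ V, u * v = g}
      one_mem' := ⟨1, one_mem _, 1, one_mem _, one_mul _⟩
      mul_mem' := by
        rintro _ _ ⟨u, hu, v, hv, rfl⟩ ⟨u', hu', v', hv', rfl⟩
        refine ⟨u * u', mul_mem hu hu', v * v', mul_mem hv hv', ?_⟩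
        calc u * u' * (v * v') = u * (u' * v) * v' := by group
          _ = u * (v * u') * v' := by rw [(hcomm u' hu' v hv).eq]
          _ = u * v * (u' * v') := by group
      inv_mem' := by
        rintro _ ⟨u, hu, v, hv, rfl⟩
        refine ⟨u⁻¹, inv_mem hu, v⁻¹, inv_mem hv, ?_⟩
        rw [(hcomm u hu v hv).eq, mul_inv_rev] }
  have hR : Elem T R := by
    refine ⟨?_, ?_⟩
    · rintro _ ⟨u, hu, v, hv, rfl⟩
      exact mul_mem (hT.O2_le hu.2) (hT.O2_le (mem_ZC.1 (mem_OZ.1 hv).1).1)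
    · rintro _ ⟨u, hu, v, hv, rfl⟩
      calc u * v * (u * v) = u * (v * u) * v := by group
        _ = u * (u * v) * v := by rw [(hcomm u hu v hv).eq]
        _ = (u * u) * (v * v) := by group
        _ = 1 := by rw [hAm.1.2 u hu.1, (mem_OZ.1 hv).2, one_mul]
  have h1 := card_mul_card_le (P := A₀) (Q := V) (R := R)
    (fun u hu => ⟨u, hu, 1, one_mem _, mul_one u⟩) (fun v hv => ⟨1, one_mem _, v, hv, one_mul v⟩)
  have h2 : Nat.card R ≤ 2 * Nat.card A₀ := (hAm.2 R hR).trans hA2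
  set C := V ⊓ Subgroup.centralizer ({a} : Set G) with hC
  have h3 : Nat.card ↥(A₀ ⊓ V) ≤ Nat.card C := Subgroup.card_le_of_le fun v hv =>
    ⟨hv.2, Subgroup.mem_centralizer_singleton_iff.2 (hAm.1.comm hv.1.1 haA).eq⟩
  have hpos : 0 < Nat.card A₀ := Nat.card_pos
  have h4 : Nat.card V ≤ 2 * Nat.card C := by
    refine Nat.le_of_mul_le_mul_left (?_ : Nat.card A₀ * Nat.card V ≤ Nat.card A₀ * (2 * Nat.card C)) hpos
    calc Nat.card A₀ * Nat.card V ≤ Nat.card ↥(A₀ ⊓ V) * Nat.card R := h1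
      _ ≤ Nat.card C * (2 * Nat.card A₀) := Nat.mul_le_mul h3 h2
      _ = _ := by ring
  have h5 : Nat.card C * Nat.card C ≤ Nat.card V :=
    card_fixed_sq hc c (hT.le (hAm.1.1 haA)) (isTwo_of_sq (hAm.1.2 a haA)) haD (hsq a haA)
  have hCpos : 0 < Nat.card C := Nat.card_pos
  have h6 : Nat.card C ≤ 2 := Nat.le_of_mul_le_mul_left
    (h5.trans (h4.trans (by rw [mul_comm]))) hCpos
  omega

theorem side_map_conj {D : Subgroup G} {g : G} (s : Side T D x)
    (hg : g ∈ Subgroup.normalizer (T : Set G)) :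
    Side T (D.map (MulAut.conj g).toMonoidHom) (g * x * g⁻¹) := by
  set φ := (MulAut.conj g).toMonoidHom with hφ
  have hin : ∀ e, e ∈ D.map φ ↔ g⁻¹ * e * g ∈ D := fun e => by
    rw [hφ, Subgroup.mem_map_equiv, MulAut.conj_symm_apply]
  have hT : ∀ t ∈ T, g⁻¹ * t * g ∈ T := fun t ht => by
    simpa using (Subgroup.mem_normalizer_iff.1 (inv_mem hg) t).1 ht
  have hOZ : OZ (D.map φ) = (OZ D).map φ := by
    ext v
    rw [hφ, Subgroup.mem_map_equiv, MulAut.conj_symm_apply, ← hφ]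
    simp only [mem_OZ, mem_ZC, hin]
    refine and_congr (and_congr_right fun _ => ⟨fun h b hb => ?_, fun h b hb => ?_⟩) ?_
    · have := h (g * b * g⁻¹) (by simpa [mul_assoc] using hb)
      show b * (g⁻¹ * v * g) = g⁻¹ * v * g * b
      calc b * (g⁻¹ * v * g) = g⁻¹ * ((g * b * g⁻¹) * v) * g := by group
        _ = g⁻¹ * (v * (g * b * g⁻¹)) * g := by rw [this.eq]
        _ = _ := by group
    · have := h _ hb
      show b * v = v * b
      calc b * v = g * ((g⁻¹ * b * g) * (g⁻¹ * v * g)) * g⁻¹ := by group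
        _ = g * ((g⁻¹ * v * g) * (g⁻¹ * b * g)) * g⁻¹ := by rw [this.eq]
        _ = _ := by group
    · constructor <;> intro h
      · calc g⁻¹ * v * g * (g⁻¹ * v * g) = g⁻¹ * (v * v) * g := by group
          _ = 1 := by rw [h, mul_one, inv_mul_cancel]
      · calc v * v = g * (g⁻¹ * v * g * (g⁻¹ * v * g)) * g⁻¹ := by group
          _ = 1 := by rw [h, mul_one, mul_inv_cancel]
  exact
    { pD := s.pD.map _
      le := by
        rintro _ ⟨e, he, rfl⟩
        exact (Subgroup.mem_normalizer_iff.1 hg e).1 (s.le he)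
      idx := fun a ha b hb ha' hb' => by
        rw [hin] at ha' hb' ⊢
        have := s.idx _ (hT a ha) _ (hT b hb) ha' hb'
        simpa [mul_assoc] using this
      proper := by
        obtain ⟨t, ht, htD⟩ := s.proper
        exact ⟨g * t * g⁻¹, (Subgroup.mem_normalizer_iff.1 hg t).1 ht,
          fun h => htD (by simpa [mul_assoc] using (hin _).1 h)⟩
      ord := (orderOf_injective (MulAut.conj g).toMonoidHom (MulEquiv.injective _) x).trans s.ord
      norm := fun e he => by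
        rw [hin] at he ⊢
        have := s.norm _ he
        convert this using 1; group
      inv := fun t ht htD => by
        rw [hin] at htD ⊢
        have := s.inv _ (hT t ht) htD
        convert this using 1; group
      four := by
        rw [hOZ, Subgroup.card_map_of_injective (MulEquiv.injective _)]
        exact s.four
      cent := fun t ht htD => by
        rw [hin] at htD
        obtain ⟨v, hv, hvc⟩ := s.cent _ (hT t ht) htD
        refine ⟨g * v * g⁻¹, hOZ ▸ ⟨v, hv, rfl⟩, fun h => hvc ?_⟩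
        have := h.map (MulAut.conj g⁻¹).toMonoidHom
        simpa [mul_assoc] using this }

/-- Sylow 2-subgroups of maximal members are Sylow in the whole group. -/
theorem isFullTwo_or_smallFour (hc : Ctx G) (hM : Loc M) (hT : TSyl M T) :
    IsFullTwo T ∨ SmallFour G := by
  refine Classical.or_iff_not_imp_left.2 fun hnf => ?_
  obtain ⟨Q, hQ, hTQ, hne⟩ : ∃ Q : Subgroup G, IsPGroup 2 Q ∧ T ≤ Q ∧ Q ≠ T := by
    by_contra hall
    push Not at hall
    exact hnf ⟨hT.isP, hall⟩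
  obtain ⟨g, hgQ, hgN, hgT⟩ : ∃ g, g ∈ Q ∧ g ∈ Subgroup.normalizer (T : Set G) ∧ g ∉ T := by
    haveI : Fact (Nat.Prime 2) := ⟨Nat.prime_two⟩
    have hlt : T.subgroupOf Q < ⊤ := lt_top_iff_ne_top.2 fun h =>
      hne (le_antisymm (Subgroup.subgroupOf_eq_top.1 h) hTQ)
    have h1 := Group.normalizerCondition_of_isNilpotent (h := hQ.isNilpotent) _ hlt
    rw [← Subgroup.subgroupOf_normalizer_eq hTQ] at h1
    obtain ⟨g, hg, hg'⟩ := SetLike.exists_of_lt h1
    exact ⟨g, g.2, hg, hg'⟩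
  have hgM : g ∉ M := fun hgM => hgT (by
    have h := hT.max (T ⊔ Subgroup.zpowers g)
      (hQ.to_le (sup_le hTQ (Subgroup.zpowers_le.2 hgQ))) le_sup_left
      (sup_le hT.le (Subgroup.zpowers_le.2 hgM))
    exact h ▸ (le_sup_right : _ ≤ T ⊔ Subgroup.zpowers g) (Subgroup.mem_zpowers g))
  by_cases hA : CaseA M T
  · exact absurd ((hA.normalizer_eq hM hT) ▸ normalizer_le_normalizer_JE T hgN) hgM
  · obtain ⟨x, p, c⟩ := exists_core hc.hyp (hM.pre hc)
    have s := side_of_card_le hc hM c hT (card_le_four_of_not_caseA hc hM c hT hA)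
    have s' := side_map_conj s hgN
    exact smallFour_of_side hc hM s
      (card_le_four hc.hyp s s' fun e => hgM (hM.mem_of_conj e.symm))

theorem card_le_two_of_lt {V H : Subgroup G} (hle : H ≤ V) (hne : ∃ v ∈ V, v ∉ H)
    (h4 : Nat.card V ≤ 4) : Nat.card H ≤ 2 := by
  obtain ⟨m, hm⟩ := Subgroup.card_dvd_of_le hle
  have hm1 : m ≠ 1 := fun e => by
    obtain ⟨v, hv, hvH⟩ := hne
    exact hvH ((Subgroup.eq_of_le_of_card_ge hle (by rw [hm, e, mul_one])).ge hv)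
  have hpos : 0 < Nat.card V := Nat.card_pos
  have hm0 : m ≠ 0 := fun e => by rw [e, mul_zero] at hm; omega
  have : Nat.card H * 2 ≤ Nat.card H * m := Nat.mul_le_mul_left _ (by omega)
  omega

theorem card_le_mul_of_commutator {V R : Subgroup G} {d : G}
    (hV : ∀ a ∈ V, ∀ b ∈ V, Commute a b) (hd : ∀ a ∈ V, d * a * d⁻¹ ∈ V)
    (hR : ∀ v ∈ V, v⁻¹ * (d * v * d⁻¹) ∈ R) :
    Nat.card V ≤ Nat.card R * Nat.card ↥(V ⊓ Subgroup.centralizer {d}) := by
  let f : V →* R := MonoidHom.mk' (fun v => ⟨(v : G)⁻¹ * (d * v * d⁻¹), hR v v.2⟩) fun a b =>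
    Subtype.ext (by
      show ((a : G) * b)⁻¹ * (d * (a * b) * d⁻¹) =
        ((a : G)⁻¹ * (d * a * d⁻¹)) * ((b : G)⁻¹ * (d * b * d⁻¹))
      have h1 : Commute (b : G)⁻¹ ((a : G)⁻¹ * (d * a * d⁻¹)) :=
        hV _ (inv_mem b.2) _ (mul_mem (inv_mem a.2) (hd a a.2))
      calc ((a : G) * b)⁻¹ * (d * (a * b) * d⁻¹)
          = ((b : G)⁻¹ * ((a : G)⁻¹ * (d * a * d⁻¹))) * (d * b * d⁻¹) := by group
        _ = ((a : G)⁻¹ * (d * a * d⁻¹) * (b : G)⁻¹) * (d * b * d⁻¹) := by rw [h1.eq]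
        _ = _ := by group)
  rw [← Subgroup.card_mul_index f.ker, Subgroup.index_ker, mul_comm]
  refine Nat.mul_le_mul (Nat.card_le_card_of_injective _ Subtype.val_injective) ?_
  refine Nat.card_le_card_of_injective (fun v : f.ker =>
    (⟨((v : V) : G), (v : V).2, Subgroup.mem_centralizer_singleton_iff.2 ?_⟩ :
      ↥(V ⊓ Subgroup.centralizer {d}))) ?_
  · have h1 : ((v : V) : G)⁻¹ * (d * ((v : V) : G) * d⁻¹) = 1 :=
      congrArg Subtype.val (MonoidHom.mem_ker.1 v.2)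
    exact mul_inv_eq_iff_eq_mul.1 (inv_mul_eq_one.1 h1).symm |>.symm
  · intro a b hab
    exact Subtype.ext (Subtype.ext (congrArg (fun z : ↥(V ⊓ Subgroup.centralizer {d}) => (z : G)) hab))

/-- Next to a side every other member has a small module. -/
theorem card_le_four_of_side {M₁ M₂ S : Subgroup G} {x₁ x₂ : G} (hc : Ctx G)
    (hM₂ : Loc M₂) (c₂ : Core M₂ x₂ p) (hT₂ : TSyl M₂ S) (s₁ : Side S (O2 M₁) x₁)
    (hne : O2 M₁ ≠ O2 M₂) : Nat.card (OZ (O2 M₂)) ≤ 4 := by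
  classical
  set D₁ := O2 M₁ with hD₁
  set D₂ := O2 M₂ with hD₂
  have h2M : ∀ {a}, a ∈ S → a ∈ M₂ := fun {a} ha => hT₂.le ha
  have h2two : ∀ {a}, a ∈ S → IsTwo a := fun {a} ha => isTwo_of_mem hT₂.isP ha
  have hD2S : D₂ ≤ S := hT₂.O2_le
  have hV2D : ∀ {v}, v ∈ OZ D₂ → v ∈ D₂ := fun {v} hv => (mem_ZC.1 (mem_OZ.1 hv).1).1
  have hV2c : ∀ {v}, v ∈ OZ D₂ → ∀ e ∈ D₂, Commute e v := fun {v} hv =>
    (mem_ZC.1 (mem_OZ.1 hv).1).2
  by_cases hVD : ∃ v ∈ OZ D₂, v ∉ D₁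
  · obtain ⟨v, hv, hvD⟩ := hVD
    obtain ⟨w, hw, hwv⟩ := s₁.cent v (hD2S (hV2D hv)) hvD
    have hw2 : w ∉ D₂ := fun h => hwv (hV2c hv w h).symm
    have hww : w * w = 1 := (mem_OZ.1 hw).2
    have hwS : w ∈ S := s₁.le (mem_ZC.1 (mem_OZ.1 hw).1).1
    set C := OZ D₂ ⊓ Subgroup.centralizer ({w} : Set G) with hC
    have hsub : ∀ u ∈ OZ D₂, u ∈ D₁ → u ∈ C := fun u hu hu1 =>
      ⟨hu, Subgroup.mem_centralizer_singleton_iff.2 ((mem_ZC.1 (mem_OZ.1 hw).1).2 u hu1).eq⟩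
    let f : OZ D₂ → Bool × C := fun u =>
      if hu : (u : G) ∈ D₁ then (true, ⟨u, hsub u u.2 hu⟩)
      else (false, ⟨v * u, hsub _ (mul_mem hv u.2)
        (s₁.idx v (hD2S (hV2D hv)) u (hD2S (hV2D u.2)) hvD hu)⟩)
    have hf : Function.Injective f := by
      intro b b' hbb
      simp only [f] at hbb
      split_ifs at hbb
      · exact Subtype.ext (congrArg (fun z : Bool × C => (z.2 : G)) hbb)
      · simp at hbb
      · simp at hbb
      · exact Subtype.ext (mul_left_cancel (congrArg (fun z : Bool × C => (z.2 : G)) hbb))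
    have h1 := Nat.card_le_card_of_injective f hf
    rw [Nat.card_prod, show Nat.card Bool = 2 by simp] at h1
    have h2 : Nat.card C * Nat.card C ≤ Nat.card (OZ D₂) :=
      card_fixed_sq hc c₂ (h2M hwS) (isTwo_of_sq hww) hw2 (by rw [hww]; exact one_mem _)
    have h3 : Nat.card C ≤ 2 := Nat.le_of_mul_le_mul_left
      (h2.trans (h1.trans (by rw [mul_comm]))) Nat.card_pos
    omega
  push Not at hVD
  obtain ⟨d, hd, hd2⟩ : ∃ d ∈ D₁, d ∉ D₂ := by
    by_contra hall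
    push Not at hall
    obtain ⟨u, hu, hu1⟩ : ∃ u ∈ D₂, u ∉ D₁ := by
      by_contra h'
      push Not at h'
      exact hne (le_antisymm hall h')
    obtain ⟨t, ht, ht2⟩ := hT₂.proper hM₂.ncl
    have ht1 : t ∉ D₁ := fun e => ht2 (hall t e)
    exact ht2 (by
      have h1 := mul_mem (inv_mem hu) (hall _ (s₁.idx u (hD2S hu) t ht hu1 ht1))
      rwa [inv_mul_cancel_left] at h1)
  have hcomm : ∀ e ∈ D₁, ∀ u ∈ OZ D₂, ∀ b ∈ D₁, Commute b ⁅e, u⁆ := fun e he u hu b hb =>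
    s₁.comm_central hc.hyp he (hVD u hu) hb
  have hsq : ∀ e ∈ D₁, e * e ∈ D₂ := fun e he =>
    eq_of_centralizes hc hM₂ c₂ hT₂ (mul_mem (s₁.le he) (s₁.le he)) fun u hu => by
      have hk : ⁅e, u⁆ ∈ OZ D₂ := by
        rw [commutatorElement_def]
        exact mul_mem (conj_mem_OZ (h2M (s₁.le he)) hu) (inv_mem hu)
      have h1 : Commute e ⁅e, u⁆ := hcomm e he u hu e he
      have h2 : e * u * e⁻¹ = ⁅e, u⁆ * u := by rw [commutatorElement_def]; group
      refine mul_inv_eq_iff_eq_mul.1 ?_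
      calc e * e * u * (e * e)⁻¹ = e * (e * u * e⁻¹) * e⁻¹ := by group
        _ = (e * ⁅e, u⁆ * e⁻¹) * (e * u * e⁻¹) := by rw [h2]; group
        _ = ⁅e, u⁆ * ⁅e, u⁆ * u := by rw [h1.eq, mul_inv_cancel_right, h2, mul_assoc]
        _ = u := by rw [(mem_OZ.1 hk).2, one_mul]
  have hpair : ∀ e ∈ D₁, e ∉ D₂ → d * e ∈ D₂ := fun e he he2 =>
    c₂.pair d (h2M (s₁.le hd)) e (h2M (s₁.le he)) (h2two (s₁.le hd)) (h2two (s₁.le he))
      (h2two (mul_mem (s₁.le hd) (s₁.le he))) hd2 he2 (hsq d hd) (hsq e he)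
  have hVab : ∀ a ∈ OZ D₂, ∀ b ∈ OZ D₂, Commute a b := fun a ha b hb => hV2c hb a (hV2D ha)
  have hVd : ∀ a ∈ OZ D₂, d * a * d⁻¹ ∈ OZ D₂ := fun a ha => conj_mem_OZ (h2M (s₁.le hd)) ha
  set C := OZ D₂ ⊓ Subgroup.centralizer ({d} : Set G) with hC
  have hC2 : Nat.card C * Nat.card C ≤ Nat.card (OZ D₂) :=
    card_fixed_sq hc c₂ (h2M (s₁.le hd)) (h2two (s₁.le hd)) hd2 (hsq d hd)
  have hCc : ∀ {u}, u ∈ OZ D₂ → ⁅d, u⁆ = u⁻¹ * (d * u * d⁻¹) := fun {u} hu => by
    rw [commutatorElement_def]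
    exact (hVab _ (hVd u hu) _ (inv_mem hu)).eq
  by_cases hD21 : ∃ e ∈ D₂, e ∉ D₁
  · obtain ⟨e₀, he₀, he₀1⟩ := hD21
    set R := OZ D₁ ⊓ Subgroup.centralizer (S : Set G) with hR
    have hR2 : Nat.card R ≤ 2 := by
      refine card_le_two_of_lt inf_le_left ?_ s₁.four
      obtain ⟨w, hw, hwc⟩ := s₁.cent e₀ (hD2S he₀) he₀1
      exact ⟨w, hw, fun h => hwc (Subgroup.mem_centralizer_iff.1 h.2 e₀ (hD2S he₀))⟩
    have hin : ∀ u ∈ OZ D₂, u⁻¹ * (d * u * d⁻¹) ∈ R := by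
      intro u hu
      have hk : u⁻¹ * (d * u * d⁻¹) ∈ OZ D₂ := mul_mem (inv_mem hu) (hVd u hu)
      have hz : ∀ b ∈ D₁, Commute b (u⁻¹ * (d * u * d⁻¹)) := fun b hb => by
        rw [← hCc hu]; exact hcomm d hd u hu b hb
      refine ⟨mem_OZ.2 ⟨mem_ZC.2 ⟨hVD _ hk, hz⟩, (mem_OZ.1 hk).2⟩, ?_⟩
      refine Subgroup.mem_centralizer_iff.2 fun t ht => ?_
      exact commute_of_mem s₁ hz (hD2S he₀) he₀1 (hV2c hk e₀ he₀) ht
    have h1 : Nat.card (OZ D₂) ≤ Nat.card R * Nat.card C := card_le_mul_of_commutator hVab hVd hin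
    have h2 : Nat.card C ≤ 2 := Nat.le_of_mul_le_mul_left
      (hC2.trans (h1.trans (by rw [mul_comm]; exact Nat.mul_le_mul_left _ hR2))) Nat.card_pos
    have h3 : Nat.card R * Nat.card C ≤ 2 * 2 := Nat.mul_le_mul hR2 h2
    omega
  push Not at hD21
  have hC4 : Nat.card C ≤ 4 := by
    refine (Subgroup.card_le_of_le ?_).trans s₁.four
    intro u hu
    refine mem_OZ.2 ⟨mem_ZC.2 ⟨hVD u hu.1, fun b hb => ?_⟩, (mem_OZ.1 hu.1).2⟩
    by_cases hb2 : b ∈ D₂
    · exact hV2c hu.1 b hb2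
    · have h1 : Commute d u := (Subgroup.mem_centralizer_singleton_iff.1 hu.2).symm
      have h2 := h1.inv_left.mul_left (hV2c hu.1 _ (hpair b hb hb2))
      rwa [inv_mul_cancel_left] at h2
  have hin : ∀ u ∈ OZ D₂, u⁻¹ * (d * u * d⁻¹) ∈ C := by
    intro u hu
    refine ⟨(OZ D₂).mul_mem ((OZ D₂).inv_mem hu) (hVd u hu), Subgroup.mem_centralizer_singleton_iff.2 ?_⟩
    rw [← hCc hu]
    exact (hcomm d hd u hu d hd).eq.symm
  have h16 : Nat.card (OZ D₂) ≤ Nat.card C * Nat.card C := card_le_mul_of_commutator hVab hVd hin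
  obtain ⟨n, hn, hn1, hdvd⟩ := two_pow_card hc hM₂ c₂
  rw [hn] at hC2 h16 ⊢
  have hn4 : n ≤ 4 := (Nat.pow_le_pow_iff_right (by norm_num : 1 < 2)).1
    (h16.trans ((Nat.mul_le_mul hC4 hC4).trans (by norm_num)))
  have hne3 : n ≠ 3 := by
    rintro rfl
    have h1 : Nat.card C ≤ 2 := by
      by_contra h
      have := Nat.mul_le_mul (show 3 ≤ Nat.card C by omega) (show 3 ≤ Nat.card C by omega)
      omega
    have := Nat.mul_le_mul h1 h1
    omega
  by_cases hn2 : n ≤ 2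
  · exact (Nat.pow_le_pow_right (by norm_num) hn2).trans (by norm_num)
  exfalso
  obtain rfl : n = 4 := by omega
  have hp : p = 3 := by
    have h15 : p ∣ 3 * 5 := by simpa using hdvd
    rcases c₂.prime.dvd_mul.1 h15 with h | h
    · exact (Nat.prime_dvd_prime_iff_eq c₂.prime Nat.prime_three).1 h
    · exfalso
      refine hc.hyp.not_five_dvd ?_
      rw [← (Nat.prime_dvd_prime_iff_eq c₂.prime Nat.prime_five).1 h, ← c₂.ord]
      exact orderOf_dvd_natCard _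
  obtain ⟨t, ht, ht1⟩ := s₁.proper
  have ht2 : t ∉ D₂ := fun h => ht1 (hD21 t h)
  have := hD21 _ (idx_of_three c₂ hp hT₂ t ht d (s₁.le hd) ht2 hd2)
  exact ht1 (by simpa using mul_mem this (inv_mem hd))

/-- A maximal member is determined by its Sylow 2-subgroup. -/
theorem eq_or_smallFour {M₁ M₂ S : Subgroup G} (hc : Ctx G) (hM₁ : Loc M₁) (hM₂ : Loc M₂)
    (hT₁ : TSyl M₁ S) (hT₂ : TSyl M₂ S) : M₁ = M₂ ∨ SmallFour G := by
  refine Classical.or_iff_not_imp_left.2 fun hne => ?_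
  have hD : O2 M₁ ≠ O2 M₂ := fun e => hne (by rw [← hM₁.normalizer_O2, e, hM₂.normalizer_O2])
  obtain ⟨x₁, p₁, c₁⟩ := exists_core hc.hyp (hM₁.pre hc)
  obtain ⟨x₂, p₂, c₂⟩ := exists_core hc.hyp (hM₂.pre hc)
  by_cases hA₁ : CaseA M₁ S
  · by_cases hA₂ : CaseA M₂ S
    · exact absurd ((hA₁.normalizer_eq hM₁ hT₁).symm.trans (hA₂.normalizer_eq hM₂ hT₂)) hne
    · have s₂ := side_of_card_le hc hM₂ c₂ hT₂ (card_le_four_of_not_caseA hc hM₂ c₂ hT₂ hA₂)
      have s₁ := side_of_card_le hc hM₁ c₁ hT₁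
        (card_le_four_of_side hc hM₁ c₁ hT₁ s₂ hD.symm)
      exact smallFour_of_side hc hM₁ s₁ (card_le_four hc.hyp s₁ s₂ hD)
  · have s₁ := side_of_card_le hc hM₁ c₁ hT₁ (card_le_four_of_not_caseA hc hM₁ c₁ hT₁ hA₁)
    have s₂ := side_of_card_le hc hM₂ c₂ hT₂ (card_le_four_of_side hc hM₂ c₂ hT₂ s₁ hD)
    exact smallFour_of_side hc hM₁ s₁ (card_le_four hc.hyp s₁ s₂ hD)

end CfsgLib.Recog.EPPOTwo
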