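import Cfsg.Agent.Lib.Recog.EPPOTwo.Amalgam
import Cfsg.Agent.Lib.Base.FPF
import Cfsg.Agent.Lib.Base.MinimalNormal

/-!
The structure of a solvable, not 2-closed subgroup with a nontrivial normal 2-subgroup.
-/

set_option autoImplicit false
set_option linter.style.haveILetI false
set_option linter.unusedSectionVars false

namespace CfsgLib.Recog.EPPOTwo

universe u

variable {G : Type u} [Group G]

theorem isTwo_one : IsTwo (1 : G) := ⟨0, one_pow _⟩

theorem isTwo_of_sq {t : G} (h : t * t = 1) : IsTwo t := ⟨1, by rw [pow_one, pow_two, h]⟩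

theorem orderOf_eq_two {t : G} (h : t * t = 1) (h1 : t ≠ 1) : orderOf t = 2 :=
  haveI : Fact (Nat.Prime 2) := ⟨Nat.prime_two⟩
  orderOf_eq_prime (by rw [pow_two, h]) h1

theorem sq_eq_one_of_orderOf {t : G} (h : orderOf t = 2) : t * t = 1 := by
  rw [← pow_two, ← h]; exact pow_orderOf_eq_one t

theorem exists_involution [Finite G] {P : Subgroup G} (hP : IsPGroup 2 P) (hne : P ≠ ⊥) :
    ∃ t ∈ P, orderOf t = 2 := by
  haveI : Fact (Nat.Prime 2) := ⟨Nat.prime_two⟩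
  haveI : Nontrivial P := (Subgroup.nontrivial_iff_ne_bot P).2 hne
  obtain ⟨n, hn0, hn⟩ := hP.nontrivial_iff_card.1 inferInstance
  obtain ⟨t, ht⟩ := exists_prime_orderOf_dvd_card' (G := P) 2 (hn ▸ dvd_pow_self 2 hn0.ne')
  exact ⟨t, t.2, by rwa [Subgroup.orderOf_coe]⟩

theorem conj_mem_O2 {M : Subgroup G} {m e : G} (hm : m ∈ M) (he : e ∈ O2 M) :
    m * e * m⁻¹ ∈ O2 M :=
  (Subgroup.mem_normalizer_iff.1 (Base.le_normalizer_map_pCore M hm) e).1 he

theorem conj_mem_O2' {M : Subgroup G} {m e : G} (hm : m ∈ M) (he : e ∈ O2 M) :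
    m⁻¹ * e * m ∈ O2 M := by
  simpa using conj_mem_O2 (inv_mem hm) he

theorem conj_mem_ZC {M : Subgroup G} {m v : G} (hm : m ∈ M) (hv : v ∈ ZC (O2 M)) :
    m * v * m⁻¹ ∈ ZC (O2 M) := by
  obtain ⟨hvD, hvc⟩ := mem_ZC.1 hv
  refine mem_ZC.2 ⟨conj_mem_O2 hm hvD, fun e he => ?_⟩
  have h1 := hvc _ (conj_mem_O2' hm he)
  show e * (m * v * m⁻¹) = m * v * m⁻¹ * e
  calc e * (m * v * m⁻¹) = m * ((m⁻¹ * e * m) * v) * m⁻¹ := by group
    _ = m * (v * (m⁻¹ * e * m)) * m⁻¹ := by rw [h1.eq]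
    _ = _ := by group

theorem conj_mem_OZ {M : Subgroup G} {m v : G} (hm : m ∈ M) (hv : v ∈ OZ (O2 M)) :
    m * v * m⁻¹ ∈ OZ (O2 M) := by
  refine mem_OZ.2 ⟨conj_mem_ZC hm (mem_OZ.1 hv).1, ?_⟩
  calc m * v * m⁻¹ * (m * v * m⁻¹) = m * (v * v) * m⁻¹ := by group
    _ = 1 := by rw [(mem_OZ.1 hv).2, mul_one, mul_inv_cancel]

/-- Elements of odd prime order act without fixed points on normalised 2-subgroups. -/
theorem OrderHyp.isFPF [Finite G] (h : OrderHyp G) {P V : Subgroup G} {p : ℕ} (hp : p.Prime)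
    (hp2 : p ≠ 2) (hP : IsPGroup p P) (hV : IsPGroup 2 V)
    (hn : P ≤ Subgroup.normalizer (V : Set G)) : Base.IsFPF P V := by
  refine ⟨hn, fun a ha ha1 => (Subgroup.eq_bot_iff_forall _).2 fun v hv => ?_⟩
  haveI : Fact p.Prime := ⟨hp⟩
  obtain ⟨k, hk⟩ := IsPGroup.iff_orderOf.1 hP ⟨a, ha⟩
  rw [← Subgroup.orderOf_coe] at hk
  have hk0 : k ≠ 0 := fun e => ha1 (orderOf_eq_one_iff.1 (by rw [hk, e, pow_zero]))
  have ho : orderOf a = p := h.orderOf_eq ha1 hp hp2 (hk ▸ dvd_pow_self p hk0)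
  exact h.eq_one_of_commute hp hp2 ho (isTwo_of_mem hV hv.1)
    (Subgroup.mem_centralizer_iff.1 hv.2 a rfl)

/-- A subgroup to which the local analysis applies. -/
structure Pre (M : Subgroup G) : Prop where
  nt : O2 M ≠ ⊥
  ncl : ¬ TwoClosed M
  sol : Group.IsSolvable M

theorem Pre.exists_inv_mem {M : Subgroup G} (hM : Pre M) [Finite G] :
    ∃ v, v ∈ OZ (O2 M) ∧ v ≠ 1 := by
  haveI : Fact (Nat.Prime 2) := ⟨Nat.prime_two⟩
  have hD := Base.isPGroup_map_pCore 2 M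
  haveI : Nontrivial (O2 M) := (Subgroup.nontrivial_iff_ne_bot _).2 hM.nt
  have hne : Subgroup.center (O2 M) ≠ ⊥ :=
    (Subgroup.nontrivial_iff_ne_bot _).1 hD.center_nontrivial
  obtain ⟨t, ht, hto⟩ := exists_involution (hD.to_subgroup _) hne
  refine ⟨t, mem_OZ.2 ⟨mem_ZC.2 ⟨t.2, fun e he => ?_⟩, ?_⟩, fun e => ?_⟩
  · exact congrArg Subtype.val (Subgroup.mem_center_iff.1 ht ⟨e, he⟩)
  · exact congrArg Subtype.val (sq_eq_one_of_orderOf hto)
  · rw [show t = 1 from Subtype.ext e, orderOf_one] at hto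
    exact absurd hto (by norm_num)

theorem commute_zpowers {X : Type*} [Group X] {x a b : X} (ha : a ∈ Subgroup.zpowers x)
    (hb : b ∈ Subgroup.zpowers x) : Commute a b := by
  obtain ⟨i, rfl⟩ := Subgroup.mem_zpowers_iff.1 ha
  obtain ⟨j, rfl⟩ := Subgroup.mem_zpowers_iff.1 hb
  exact (Commute.refl x).zpow_zpow i j

/-- The element of odd prime order in the quotient by the largest normal 2-subgroup. -/
theorem exists_quotient_generator [Finite G] (h : OrderHyp G) {M : Subgroup G} (hM : Pre M) :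
    ∃ (p : ℕ) (x : M ⧸ Cfsg.pCore 2 M), p.Prime ∧ p ≠ 2 ∧ orderOf x = p ∧
      (∀ y, y * x * y⁻¹ ∈ Subgroup.zpowers x) ∧
      (∀ y, Commute y x → y ∈ Subgroup.zpowers x) := by
  classical
  set X := M ⧸ Cfsg.pCore 2 M with hX
  set q : M →* X := QuotientGroup.mk' _ with hq
  have hqs : Function.Surjective q := QuotientGroup.mk'_surjective _
  haveI := hM.sol
  have hsolX : Group.IsSolvable X := Group.isSolvable_of_surjective hqs
  have hcore : Cfsg.pCore 2 X = ⊥ := Base.pCore_quotient_pCore 2 M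
  have hXh : OrderHyp X := (h.subgroup M).of_surjective q hqs
  haveI : Nontrivial X := by
    by_contra hX'
    rw [not_nontrivial_iff_subsingleton] at hX'
    refine hM.ncl (TwoClosed.of_O2 fun g hg _ => ?_)
    exact ⟨⟨g, hg⟩, (QuotientGroup.eq_one_iff _).1 (Subsingleton.elim _ _), rfl⟩
  obtain ⟨A, hA⟩ := Base.exists_isMinimalNormal (G := X)
  obtain ⟨p, hp, hAc, hApow, hAp⟩ := hA.exists_prime (by haveI := hsolX; infer_instance)
  haveI := hA.normal
  haveI : Fact p.Prime := ⟨hp⟩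
  have hp2 : p ≠ 2 := fun e => hA.ne_bot (by
    rw [eq_bot_iff, ← hcore]; exact Base.le_pCore (e ▸ hAp))
  obtain ⟨x, hxA, hx1⟩ := (Subgroup.bot_or_exists_ne_one A).resolve_left hA.ne_bot
  have hxo : orderOf x = p := orderOf_eq_prime (hApow x hxA) hx1
  set C : Subgroup X := Subgroup.centralizer (A : Set X) with hC
  haveI : C.Normal := by rw [hC]; infer_instance
  have hAC : A ≤ C := fun a ha => Subgroup.mem_centralizer_iff.2 fun b hb =>
    congrArg Subtype.val (hAc.is_comm.comm ⟨b, hb⟩ ⟨a, ha⟩)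
  have hCpow : ∀ c ∈ C, c ^ p = 1 := fun c hc => hXh.pow_eq_one hp hp2 hxo
    (Subgroup.mem_centralizer_iff.1 hc x hxA)
  have hCp : IsPGroup p C := fun c => ⟨1, Subtype.ext (by rw [pow_one]; exact hCpow c c.2)⟩
  -- a `p`-subgroup of `M` of the same order
  obtain ⟨n, hn⟩ := hCp.exists_card_eq
  have hdvd : p ^ n ∣ Nat.card (C.comap q) := by
    have hle : ((C.comap q).map q) = C := Subgroup.map_comap_eq_self_of_surjective hqs C
    rw [← hn]
    exact (congrArg (fun H : Subgroup X => Nat.card H) hle) ▸ Subgroup.card_map_dvd _ _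
  obtain ⟨P, hP⟩ := Sylow.exists_subgroup_card_pow_prime (G := C.comap q) p hdvd
  set P' : Subgroup G := (P.map (C.comap q).subtype).map M.subtype with hP'
  have hP'card : Nat.card P' = p ^ n := by
    rw [hP', Subgroup.card_map_of_injective M.subtype_injective,
      Subgroup.card_map_of_injective (Subgroup.subtype_injective _), hP]
  have hP'M : P' ≤ M := Subgroup.map_subtype_le _
  have hfpf : Base.IsFPF P' (O2 M) := h.isFPF hp hp2 (IsPGroup.of_card hP'card)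
    (Base.isPGroup_map_pCore 2 M) (hP'M.trans (Base.le_normalizer_map_pCore M))
  have hcyc : IsCyclic P' := by
    rcases hfpf.isCyclic_or_quaternion hM.nt ⊤ ((IsPGroup.of_card hP'card).to_subgroup ⊤) with
      hc | ⟨e, -⟩
    · exact Subgroup.topEquiv.isCyclic.1 hc
    · exact absurd e hp2
  have hn1 : n ≤ 1 := by
    obtain ⟨g, hg⟩ := hcyc.exists_ofOrder_eq_natCard
    rw [hP'card] at hg
    rcases eq_or_ne n 0 with hn0 | hn0
    · omega
    · have hg1 : (g : G) ≠ 1 := fun e => by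
        have : g = 1 := Subtype.ext e
        rw [this, orderOf_one] at hg
        have := Nat.one_lt_pow hn0 hp.one_lt
        omega
      have h1 := h.orderOf_eq hg1 hp hp2 (by rw [Subgroup.orderOf_coe, hg]; exact dvd_pow_self p hn0)
      rw [Subgroup.orderOf_coe, hg] at h1
      exact (Nat.pow_eq_self_iff hp.one_lt).1 h1 ▸ le_rfl
  have hCle : C ≤ Subgroup.zpowers x := by
    have h1 : Subgroup.zpowers x ≤ C := Subgroup.zpowers_le.2 (hAC hxA)
    refine (Subgroup.eq_of_le_of_card_ge h1 ?_).ge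
    rw [Nat.card_zpowers, hxo, hn]
    calc p ^ n ≤ p ^ 1 := Nat.pow_le_pow_right hp.pos hn1
      _ = p := pow_one p
  refine ⟨p, x, hp, hp2, hxo, fun y => hCle (hAC (hA.normal.conj_mem x hxA y)),
    fun y hy => hCle (Subgroup.mem_centralizer_iff.2 fun a ha => ?_)⟩
  obtain ⟨i, rfl⟩ := Subgroup.mem_zpowers_iff.1 (hCle (hAC ha))
  exact (hy.zpow_right i).eq.symm

/-- Facts about an element generating the Fitting subgroup of the quotient. -/
structure Core (M : Subgroup G) (x : G) (p : ℕ) : Prop where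
  mem : x ∈ M
  prime : p.Prime
  odd : p ≠ 2
  ord : orderOf x = p
  inv : ∀ t ∈ M, IsTwo t → t ∉ O2 M → t * t ∈ O2 M → t * x * t⁻¹ * x ∈ O2 M
  pair : ∀ t ∈ M, ∀ t' ∈ M, IsTwo t → IsTwo t' → IsTwo (t * t') → t ∉ O2 M → t' ∉ O2 M →
    t * t ∈ O2 M → t' * t' ∈ O2 M → t * t' ∈ O2 M
  three : p = 3 → ∀ t ∈ M, IsTwo t → t * t ∈ O2 M
  invol : ∃ s ∈ M, orderOf s = 2 ∧ s ∉ O2 M

theorem exists_core [Finite G] (h : OrderHyp G) {M : Subgroup G} (hM : Pre M) :
    ∃ x p, Core M x p := by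
  classical
  obtain ⟨p, x₀, hp, hp2, hxo, hnorm, hcent⟩ := exists_quotient_generator h hM
  obtain ⟨g, rfl⟩ := QuotientGroup.mk'_surjective (Cfsg.pCore 2 M) x₀
  set q : M →* M ⧸ Cfsg.pCore 2 M := QuotientGroup.mk' _ with hq
  have hmemD : ∀ {a : G} (ha : a ∈ M), q ⟨a, ha⟩ = 1 ↔ a ∈ O2 M := by
    intro a ha
    rw [hq, QuotientGroup.mk'_apply, QuotientGroup.eq_one_iff]
    constructor
    · exact fun h1 => ⟨_, h1, rfl⟩
    · rintro ⟨b, hb, hba⟩
      rwa [show (⟨a, ha⟩ : M) = b from Subtype.ext hba.symm]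
  have hxne : q g ≠ 1 := fun e => by
    rw [e, orderOf_one] at hxo
    exact hp.one_lt.ne hxo
  have hgo : orderOf (g : G) = p := h.orderOf_eq (fun e => hxne (by
    rw [show g = 1 from Subtype.ext e, map_one])) hp hp2 (by
      rw [Subgroup.orderOf_coe, ← hxo]; exact orderOf_map_dvd q g)
  have htriv : ∀ z, z ∈ Subgroup.zpowers (q g) → IsTwo z → z = 1 := by
    intro z hz ⟨k, hk⟩
    obtain ⟨i, rfl⟩ := Subgroup.mem_zpowers_iff.1 hz
    by_contra hne
    have h1 := orderOf_dvd_of_pow_eq_one hk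
    have h2 : orderOf (q g ^ i) ∣ p := by
      rw [← hxo]; exact orderOf_dvd_of_mem_zpowers (Subgroup.zpow_mem_zpowers (q g) i)
    rcases (Nat.dvd_prime hp).1 h2 with e | e
    · exact hne (orderOf_eq_one_iff.1 e)
    · exact hp2 ((Nat.prime_dvd_prime_iff_eq hp Nat.prime_two).1 (hp.dvd_of_dvd_pow (e ▸ h1)))
  have htwo : ∀ {a : G} (ha : a ∈ M), IsTwo a → IsTwo (q ⟨a, ha⟩) := by
    rintro a ha ⟨k, hk⟩
    exact ⟨k, by rw [← map_pow, show (⟨a, ha⟩ : M) ^ 2 ^ k = 1 from Subtype.ext hk, map_one]⟩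
  have hconj : ∀ {a : G} (ha : a ∈ M), IsTwo a → a ∉ O2 M → a * a ∈ O2 M →
      q ⟨a, ha⟩ * q g * (q ⟨a, ha⟩)⁻¹ = (q g)⁻¹ := by
    intro a ha ha2 haD haa
    set y := q ⟨a, ha⟩ with hy
    have hy2 : y * y = 1 := by
      rw [hy, ← map_mul]; exact (hmemD (mul_mem ha ha)).2 haa
    have hy1 : y ≠ 1 := fun e => haD ((hmemD ha).1 e)
    set z := q g * (y * q g * y⁻¹) with hz
    have hzm : z ∈ Subgroup.zpowers (q g) := mul_mem (Subgroup.mem_zpowers _) (hnorm y)
    have hyi : y⁻¹ = y := inv_eq_of_mul_eq_one_left hy2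
    have hzfix : Commute y z := by
      have h1 : y * z * y⁻¹ = z := by
        have h2 : y * z * y⁻¹ = (y * q g * y⁻¹) * ((y * y) * q g * (y * y)⁻¹) := by rw [hz]; group
        rw [h2, hy2, one_mul, inv_one, mul_one, hz]
        exact (commute_zpowers (hnorm y) (Subgroup.mem_zpowers _)).eq
      exact mul_inv_eq_iff_eq_mul.1 h1
    have hz1 : z = 1 := by
      by_contra hne
      refine hy1 (htriv y (hcent y ?_) (htwo ha ha2))
      have hgen : Subgroup.zpowers z = Subgroup.zpowers (q g) := by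
        refine Subgroup.eq_of_le_of_card_ge (Subgroup.zpowers_le.2 hzm) ?_
        rw [Nat.card_zpowers, Nat.card_zpowers, hxo]
        have h2 : orderOf z ∣ p := by
          rw [← hxo]; exact orderOf_dvd_of_mem_zpowers hzm
        rcases (Nat.dvd_prime hp).1 h2 with e | e
        · exact absurd (orderOf_eq_one_iff.1 e) hne
        · rw [e]
      obtain ⟨i, hi⟩ := Subgroup.mem_zpowers_iff.1 (hgen ▸ Subgroup.mem_zpowers (q g))
      rw [← hi]
      exact hzfix.zpow_right i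
    exact eq_inv_of_mul_eq_one_right hz1
  have hinv : ∀ t ∈ M, IsTwo t → t ∉ O2 M → t * t ∈ O2 M → t * (g : G) * t⁻¹ * g ∈ O2 M := by
    intro t ht ht2 htD htt
    refine (hmemD (mul_mem (mul_mem (mul_mem ht g.2) (inv_mem ht)) g.2)).1 ?_
    have e : (⟨t * (g : G) * t⁻¹ * g, mul_mem (mul_mem (mul_mem ht g.2) (inv_mem ht)) g.2⟩ : M)
        = ⟨t, ht⟩ * g * (⟨t, ht⟩)⁻¹ * g := rfl
    rw [e, map_mul, map_mul, map_mul, map_inv, hconj ht ht2 htD htt, inv_mul_cancel]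
  refine ⟨g, p, g.2, hp, hp2, hgo, hinv, ?_, ?_, ?_⟩
  · intro t ht t' ht' ht2 ht'2 htt2 htD ht'D htt ht't'
    refine (hmemD (mul_mem ht ht')).1 (htriv _ (hcent _ ?_) (htwo _ htt2))
    have e : (⟨t * t', mul_mem ht ht'⟩ : M) = ⟨t, ht⟩ * ⟨t', ht'⟩ := rfl
    have h1 := hconj ht ht2 htD htt
    have h2 := hconj ht' ht'2 ht'D ht't'
    rw [e, map_mul]
    refine mul_inv_eq_iff_eq_mul.1 ?_
    calc q ⟨t, ht⟩ * q ⟨t', ht'⟩ * q g * (q ⟨t, ht⟩ * q ⟨t', ht'⟩)⁻¹
        = q ⟨t, ht⟩ * (q ⟨t', ht'⟩ * q g * (q ⟨t', ht'⟩)⁻¹) * (q ⟨t, ht⟩)⁻¹ := by group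
      _ = (q ⟨t, ht⟩ * q g * (q ⟨t, ht⟩)⁻¹)⁻¹ := by rw [h2]; group
      _ = q g := by rw [h1, inv_inv]
  · intro hp3 t ht ht2
    subst hp3
    refine (hmemD (mul_mem ht ht)).1 (htriv _ (hcent _ ?_) (htwo _ ?_))
    · have e : (⟨t * t, mul_mem ht ht⟩ : M) = ⟨t, ht⟩ * ⟨t, ht⟩ := rfl
      rw [e, map_mul]
      set y := q ⟨t, ht⟩
      refine mul_inv_eq_iff_eq_mul.1 ?_
      obtain ⟨i, hi⟩ := Subgroup.mem_zpowers_iff.1 (hnorm y)
      rw [← zpow_mod_orderOf, hxo] at hi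
      have hcases : i % (3 : ℕ) = 0 ∨ i % (3 : ℕ) = 1 ∨ i % (3 : ℕ) = 2 := by omega
      calc y * y * q g * (y * y)⁻¹ = y * (y * q g * y⁻¹) * y⁻¹ := by group
        _ = q g := by
          rw [← hi]
          rcases hcases with e | e | e <;> rw [e] at hi ⊢
          · rw [zpow_zero] at hi
            exact absurd (mul_left_cancel (a := y) ((mul_inv_eq_one.1 hi.symm).trans
              (mul_one y).symm)) hxne
          · rw [zpow_one] at hi ⊢
            exact hi.symm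
          · have h3 : q g ^ (3 : ℤ) = 1 := by
              rw [show (3 : ℤ) = ((3 : ℕ) : ℤ) from rfl, zpow_natCast, ← hxo, pow_orderOf_eq_one]
            calc y * q g ^ (2 : ℤ) * y⁻¹ = (y * q g * y⁻¹) ^ (2 : ℤ) := (conj_zpow).symm
              _ = (q g ^ (2 : ℤ)) ^ (2 : ℤ) := by rw [hi]
              _ = q g ^ (3 : ℤ) * q g := by rw [← zpow_mul, ← zpow_add_one]; norm_num
              _ = q g := by rw [h3, one_mul]
    · obtain ⟨k, hk⟩ := ht2
      exact ⟨k, by rw [← pow_two, ← pow_mul, mul_comm, pow_mul, hk, one_pow]⟩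
  · obtain ⟨a, ha, ha2, haD⟩ : ∃ a, a ∈ M ∧ IsTwo a ∧ a ∉ O2 M := by
      by_contra hall
      exact hM.ncl (TwoClosed.of_O2 fun g' hg' hg2 =>
        not_not.1 fun hne => hall ⟨g', hg', hg2, hne⟩)
    -- descend to an element whose square lies in the core
    obtain ⟨t, ht, ht2, htD, htt⟩ : ∃ t, t ∈ M ∧ IsTwo t ∧ t ∉ O2 M ∧ t * t ∈ O2 M := by
      obtain ⟨k, hk⟩ := ha2
      induction k generalizing a with
      | zero =>
        rw [pow_zero, pow_one] at hk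
        exact absurd (hk.symm ▸ one_mem (O2 M) : a ∈ O2 M) haD
      | succ k ih =>
        by_cases haa : a * a ∈ O2 M
        · exact ⟨a, ha, ⟨k + 1, hk⟩, haD, haa⟩
        · exact ih (a * a) (mul_mem ha ha) haa (by rw [← pow_two, ← pow_mul, ← pow_succ']; exact hk)
    set d := t * (g : G) * t⁻¹ * g with hd
    have hdD : d ∈ O2 M := hinv t ht ht2 htD htt
    let f : O2 M → O2 M := fun e => ⟨(e : G)⁻¹ * ((g : G)⁻¹ * e * g),
      mul_mem (inv_mem e.2) (conj_mem_O2' g.2 e.2)⟩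
    have hf : Function.Injective f := by
      intro e₁ e₂ he
      have h1 : (e₁ : G)⁻¹ * ((g : G)⁻¹ * e₁ * g) = (e₂ : G)⁻¹ * ((g : G)⁻¹ * e₂ * g) :=
        congrArg Subtype.val he
      have h2 : Commute (g : G) ((e₂ : G) * (e₁ : G)⁻¹) := by
        show (g : G) * ((e₂ : G) * (e₁ : G)⁻¹) = (e₂ : G) * (e₁ : G)⁻¹ * g
        calc (g : G) * ((e₂ : G) * (e₁ : G)⁻¹)
            = g * e₂ * ((e₁ : G)⁻¹ * ((g : G)⁻¹ * e₁ * g)) * (g : G)⁻¹ * (e₁ : G)⁻¹ * g := by group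
          _ = g * e₂ * ((e₂ : G)⁻¹ * ((g : G)⁻¹ * e₂ * g)) * (g : G)⁻¹ * (e₁ : G)⁻¹ * g := by
              rw [h1]
          _ = _ := by group
      exact (Subtype.ext (mul_inv_eq_one.1 (h.eq_one_of_commute hp hp2 hgo
        (isTwo_of_mem (Base.isPGroup_map_pCore 2 M) (mul_mem e₂.2 (inv_mem e₁.2))) h2))).symm
    obtain ⟨e, he⟩ := Finite.injective_iff_surjective.1 hf ⟨d, hdD⟩
    have hde : (e : G)⁻¹ * ((g : G)⁻¹ * e * g) = d := congrArg Subtype.val he
    set s := (e : G) * t with hs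
    have hsx : s * (g : G) * s⁻¹ = (g : G)⁻¹ := by
      calc s * (g : G) * s⁻¹ = (e : G) * (t * g * t⁻¹ * g) * (g : G)⁻¹ * (e : G)⁻¹ := by
            rw [hs]; group
        _ = (e : G) * ((e : G)⁻¹ * ((g : G)⁻¹ * e * g)) * (g : G)⁻¹ * (e : G)⁻¹ := by rw [← hd, hde]
        _ = _ := by group
    have hsD : s ∉ O2 M := fun h1 => htD (by
      have h2 := mul_mem (inv_mem e.2) h1
      rwa [hs, inv_mul_cancel_left] at h2)
    have hssD : s * s ∈ O2 M := by
      have : s * s = (e : G) * (t * e * t⁻¹) * (t * t) := by rw [hs]; group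
      rw [this]
      exact mul_mem (mul_mem e.2 (conj_mem_O2 ht e.2)) htt
    have hss : s * s = 1 := by
      refine h.eq_one_of_commute hp hp2 hgo
        (isTwo_of_mem (Base.isPGroup_map_pCore 2 M) hssD) ?_
      refine (mul_inv_eq_iff_eq_mul.1 ?_ : s * s * g = g * (s * s)).symm
      calc s * s * (g : G) * (s * s)⁻¹ = s * (s * g * s⁻¹) * s⁻¹ := by group
        _ = s * (g : G)⁻¹ * s⁻¹ := by rw [hsx]
        _ = (s * g * s⁻¹)⁻¹ := by group
        _ = g := by rw [hsx, inv_inv]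
    exact ⟨s, mul_mem (O2_le M e.2) ht,
      orderOf_eq_two hss (fun e => hsD (e ▸ one_mem _)), hsD⟩

variable {M : Subgroup G} {x : G} {p : ℕ}

/-- No nontrivial central element of the core is fixed by `t` and by a conjugate of `t`. -/
theorem Core.fixed_pair [Finite G] (h : OrderHyp G) (c : Core M x p) {t v : G} (ht : t ∈ M)
    (ht2 : IsTwo t) (htD : t ∉ O2 M) (htt : t * t ∈ O2 M) (hv : v ∈ ZC (O2 M))
    (h1 : Commute t v) (h2 : Commute t (x * v * x⁻¹)) : v = 1 := by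
  set d := t * x * t⁻¹ * x with hd
  have hdD : d ∈ O2 M := c.inv t ht ht2 htD htt
  have hw : Commute d (x⁻¹ * v * x) := by
    refine (mem_ZC.1 (?_ : x⁻¹ * v * x ∈ ZC (O2 M))).2 d hdD
    simpa using conj_mem_ZC (inv_mem c.mem) hv
  have h3 : x * v * x⁻¹ = x⁻¹ * v * x := by
    calc x * v * x⁻¹ = t * (x * v * x⁻¹) * t⁻¹ := by rw [h2.eq, mul_inv_cancel_right]
      _ = (t * x * t⁻¹) * (t * v * t⁻¹) * (t * x * t⁻¹)⁻¹ := by group
      _ = (t * x * t⁻¹) * v * (t * x * t⁻¹)⁻¹ := by rw [h1.eq, mul_inv_cancel_right]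
      _ = d * (x⁻¹ * v * x) * d⁻¹ := by rw [hd]; group
      _ = _ := by rw [hw.eq, mul_inv_cancel_right]
  have hx2 : Commute (x * x) v := by
    show x * x * v = v * (x * x)
    calc x * x * v = x * (x * v * x⁻¹) * x := by group
      _ = x * (x⁻¹ * v * x) * x := by rw [h3]
      _ = _ := by group
  have ho : orderOf (x * x) = p := by
    rw [← pow_two, orderOf_pow' x two_ne_zero, c.ord,
      show Nat.gcd p 2 = 1 from (Nat.coprime_primes c.prime Nat.prime_two).2 c.odd, Nat.div_one]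
  exact h.eq_one_of_commute c.prime c.odd ho
    (isTwo_of_mem (Base.isPGroup_map_pCore 2 M) (mem_ZC.1 hv).1) hx2

end CfsgLib.Recog.EPPOTwo
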