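import Cfsg.Agent.Lib.Recog.EPPOTwo.Maximal
import Cfsg.Agent.Lib.Involutions.QDWRCentralizer
import Cfsg.Agent.S3224
import Cfsg.Agent.S0508

/-!
A self-centralising four-group normalised by an element of order three leads to a dihedral Sylow
2-subgroup and hence to a projective special linear group of degree two.
-/

set_option autoImplicit false
set_option linter.style.haveILetI false
set_option linter.unusedSectionVars false

namespace CfsgLib.Recog.EPPOTwo

universe u

variable {G : Type u} [Group G] [Finite G]

/-- `G` is a projective special linear group of degree two. -/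
def IsPSLTwo (G : Type u) [Group G] : Prop :=
  ∃ (F : Type) (_ : Field F) (_ : Fintype F),
    Nonempty (G ≃* Matrix.ProjectiveSpecialLinearGroup (Fin 2) F)

theorem eq_of_card_le_four {D : Subgroup G} (h : Nat.card D ≤ 4) {z e : G} (hz : z ∈ D)
    (he : e ∈ D) (hz1 : z ≠ 1) (he1 : e ≠ 1) (hne : z ≠ e) (hzz : z * z = 1) {y : G} (hy : y ∈ D) :
    y = 1 ∨ y = z ∨ y = e ∨ y = z * e := by
  by_contra hcon
  push Not at hcon
  obtain ⟨h1, h2, h3, h4⟩ := hcon
  let j : Fin 5 → D := ![1, ⟨z, hz⟩, ⟨e, he⟩, ⟨z * e, mul_mem hz he⟩, ⟨y, hy⟩]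
  have hze1 : z * e ≠ 1 := fun h' => hne (by
    rw [← inv_eq_of_mul_eq_one_right h', inv_eq_of_mul_eq_one_right hzz])
  have hzez : z * e ≠ z := fun h' => he1 (mul_left_cancel (h'.trans (mul_one z).symm))
  have hzee : z * e ≠ e := fun h' => hz1 (mul_right_cancel (h'.trans (one_mul e).symm))
  have hj : Function.Injective j := by
    intro a b hab
    have hval := congrArg Subtype.val hab
    fin_cases a <;> fin_cases b <;>
      first
      | rfl
      | exact absurd hval hz1 | exact absurd hval.symm hz1
      | exact absurd hval he1 | exact absurd hval.symm he1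
      | exact absurd hval hne | exact absurd hval.symm hne
      | exact absurd hval hze1 | exact absurd hval.symm hze1
      | exact absurd hval hzez | exact absurd hval.symm hzez
      | exact absurd hval hzee | exact absurd hval.symm hzee
      | exact absurd hval h1 | exact absurd hval.symm h1
      | exact absurd hval h2 | exact absurd hval.symm h2
      | exact absurd hval h3 | exact absurd hval.symm h3
      | exact absurd hval h4 | exact absurd hval.symm h4
  have := Nat.card_le_card_of_injective j hj
  simp at this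
  omega

theorem Ctx.index_ne_two (hc : Ctx G) (H : Subgroup G) : H.index ≠ 2 := fun hi => by
  haveI := hc.simple
  rcases (Subgroup.normal_of_index_eq_two hi).eq_bot_or_eq_top with rfl | rfl
  · rw [Subgroup.index_bot] at hi
    have h3 := hc.three
    rw [hi, Nat.Prime.primeFactors Nat.prime_two, Finset.card_singleton] at h3
    omega
  · rw [Subgroup.index_top] at hi
    omega

theorem isPSLTwo_of_smallFour (hc : Ctx G) (h : SmallFour G) : IsPSLTwo G := by
  obtain ⟨D, x, hD, hne, h4, hcent, hxo, hxD⟩ := h
  haveI : Fact (Nat.Prime 2) := ⟨Nat.prime_two⟩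
  obtain ⟨S, hDS⟩ := hD.exists_le_sylow
  have hSne : (S : Subgroup G) ≠ ⊥ := fun e => hne (le_bot_iff.1 (e ▸ hDS))
  haveI : Nontrivial (S : Subgroup G) := (Subgroup.nontrivial_iff_ne_bot _).2 hSne
  obtain ⟨z₀, hz₀, hz₀o⟩ := exists_involution (S.isPGroup'.to_subgroup _)
    ((Subgroup.nontrivial_iff_ne_bot _).1 S.isPGroup'.center_nontrivial)
  set z : G := (z₀ : G) with hz
  have hzS : z ∈ (S : Subgroup G) := z₀.2
  have hzc : ∀ s ∈ (S : Subgroup G), s * z = z * s := fun s hs =>
    congrArg Subtype.val (Subgroup.mem_center_iff.1 hz₀ ⟨s, hs⟩)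
  have hzo : orderOf z = 2 := by rw [hz, Subgroup.orderOf_coe]; exact hz₀o
  have hzD : z ∈ D := hcent (Subgroup.mem_centralizer_iff.2 fun d hd => hzc d (hDS hd))
  have hzz := sq_eq_one_of_orderOf hzo
  have hz1 : z ≠ 1 := fun e => by rw [e, orderOf_one] at hzo; exact absurd hzo (by norm_num)
  set e : G := x * z * x⁻¹ with he
  have heD : e ∈ D := hxD z hzD
  have he1 : e ≠ 1 := fun h' => hz1 (by
    have h2 := congrArg (fun a => x⁻¹ * a * x) h'
    simpa [he, mul_assoc] using h2)
  have hze : z ≠ e := fun h' => hz1 (hc.hyp.eq_one_of_commute Nat.prime_three (by norm_num) hxo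
    (isTwo_of_mem hD hzD) (mul_inv_eq_iff_eq_mul.1 h'.symm))
  have hall := fun {y} hy => eq_of_card_le_four (y := y) h4 hzD heD hz1 he1 hze hzz hy
  have hD4 : Nat.card D = 4 := by
    obtain ⟨n, hn⟩ := hD.exists_card_eq
    let j : Fin 3 → D := ![1, ⟨z, hzD⟩, ⟨e, heD⟩]
    have hj : Function.Injective j := by
      intro a b hab
      have hval := congrArg Subtype.val hab
      fin_cases a <;> fin_cases b <;>
        first
        | rfl
        | exact absurd hval hz1 | exact absurd hval.symm hz1
        | exact absurd hval he1 | exact absurd hval.symm he1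
        | exact absurd hval hze | exact absurd hval.symm hze
    have h3 := Nat.card_le_card_of_injective j hj
    rw [Nat.card_fin] at h3
    rw [hn] at h3 h4 ⊢
    have : n ≤ 2 := (Nat.pow_le_pow_iff_right (by norm_num : 1 < 2)).1 h4
    interval_cases n <;> omega
  have hez : Commute z e := (hzc e (hDS heD)).symm
  have hCS : Subgroup.centralizer ({⟨e, hDS heD⟩} : Set (S : Subgroup G)) =
      D.subgroupOf (S : Subgroup G) := by
    ext y
    rw [Subgroup.mem_centralizer_singleton_iff, Subgroup.mem_subgroupOf]
    constructor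
    · intro hy
      refine hcent (Subgroup.mem_centralizer_iff.2 fun d hd => ?_)
      have hye : Commute (y : G) e := congrArg Subtype.val hy
      have hyz : Commute (y : G) z := hzc y y.2
      rcases hall hd with rfl | rfl | rfl | rfl
      · simp
      · exact hyz.eq.symm
      · exact hye.eq.symm
      · exact (hyz.mul_right hye).eq.symm
    · intro hy
      apply Subtype.ext
      show (y : G) * e = e * y
      rcases hall hy with h' | h' | h' | h' <;> rw [h']
      · simp
      · exact hez.eq
      · exact (hez.mul_left (Commute.refl e)).eq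
  have heo : orderOf (⟨e, hDS heD⟩ : (S : Subgroup G)) = 2 := by
    rw [Subgroup.orderOf_mk, he, ← MulAut.conj_apply]
    exact (orderOf_injective (MulAut.conj x).toMonoidHom (MulEquiv.injective _) z).trans hzo
  have hC4 : Nat.card (Subgroup.centralizer ({⟨e, hDS heD⟩} : Set (S : Subgroup G))) = 4 := by
    rw [hCS, Nat.card_congr (Subgroup.subgroupOfEquivOfLe hDS).toEquiv, hD4]
  have hdih : ∀ n, Nonempty ((S : Subgroup G) ≃* DihedralGroup n) → IsPSLTwo G := by
    intro n hn
    haveI := hc.simple
    have hcard : 4 ≤ Nat.card (S : Subgroup G) := hD4 ▸ Subgroup.card_le_of_le hDS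
    obtain ⟨φ⟩ := hn
    rw [Nat.card_congr φ.toEquiv, DihedralGroup.nat_card] at hcard
    set O := (Cfsg.oddCore (Subgroup.centralizer ({z} : Set G))).map
      (Subgroup.centralizer ({z} : Set G)).subtype with hO
    have hObot : O = ⊥ := by
      refine Subgroup.eq_bot_of_card_eq _ ?_
      rw [hO, Subgroup.card_map_of_injective (Subgroup.subtype_injective _)]
      obtain ⟨k, hk⟩ := (hc.hyp.isPGroup_centralizer hzo (Set.mem_singleton z)).to_subgroup
        (Cfsg.oddCore (Subgroup.centralizer ({z} : Set G))) |>.exists_card_eq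
      have hodd := Base.odd_card_oddCore (Subgroup.centralizer ({z} : Set G))
      rw [hk] at hodd ⊢
      rcases Nat.eq_zero_or_pos k with rfl | hk0
      · exact pow_zero 2
      · exact absurd hodd (Nat.not_odd_iff_even.2 (Nat.even_pow.2 ⟨even_two, hk0.ne'⟩))
    obtain ⟨F, iF, jF, -, hF⟩ := Cfsg.Agent.S0508.result S n (by omega) ⟨φ⟩ z hzo hzS hzc O hO
      (fun h' => absurd hObot h')
      (fun s hs hsO => absurd (by rw [hObot]; simp [Subgroup.mem_centralizer_iff]) hsO)
      (fun Y hY hY' => absurd (le_bot_iff.1 (hObot ▸ hY)) hY')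
    exact ⟨F, iF, jF, hF⟩
  rcases Cfsg.Agent.S3224.result S.isPGroup' _ heo hC4 with ⟨n, hn⟩ | hq | h4'
  · exact hdih n hn
  · exfalso
    obtain ⟨R, -, ⟨K, -, -, hK2, hKP⟩, -⟩ := Involutions.centralizer_involution S (Or.inl hq)
      hc.index_ne_two z hzo
    have hKp : IsPGroup 2 K :=
      (hc.hyp.isPGroup_centralizer hzo (Set.mem_singleton z)).to_subgroup K
    obtain ⟨P⟩ := (inferInstance : Nonempty (Sylow 2 K))
    obtain ⟨m, -, ⟨φ⟩⟩ := hKP P
    obtain ⟨k, hk⟩ := hKp.exists_card_eq
    rcases k with _ | k
    · have h1 : Nat.card (P : Subgroup K) = 1 :=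
        Nat.eq_one_of_dvd_one (by rw [← pow_zero 2, ← hk]; exact Subgroup.card_subgroup_dvd_card _)
      haveI : NeZero (2 ^ m) := ⟨pow_ne_zero m two_ne_zero⟩
      rw [Nat.card_congr φ.toEquiv, Nat.card_eq_fintype_card, QuaternionGroup.card] at h1
      omega
    · obtain ⟨H, hH⟩ := Sylow.exists_subgroup_card_pow_prime (G := K) 2
        (hk ▸ pow_dvd_pow 2 (Nat.le_succ k) : 2 ^ k ∣ Nat.card K)
      refine hK2 H ?_
      have h1 := H.card_mul_index
      rw [hH, hk, pow_succ] at h1
      exact Nat.eq_of_mul_eq_mul_left (pow_pos (by norm_num) k) h1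
  · refine hdih 2 ?_
    have hSD : (S : Subgroup G) = D :=
      (Subgroup.eq_of_le_of_card_ge hDS (by rw [h4', hD4])).symm
    haveI : IsKleinFour (S : Subgroup G) := by
      refine ⟨h4', ?_⟩
      refine Nat.dvd_antisymm (Monoid.exponent_dvd_of_forall_pow_eq_one fun y => ?_) ?_
      · apply Subtype.ext
        show (y : G) ^ 2 = 1
        rw [pow_two]
        have hye : e * e = 1 := by
          rw [he]
          calc x * z * x⁻¹ * (x * z * x⁻¹) = x * (z * z) * x⁻¹ := by group
            _ = 1 := by rw [hzz, mul_one, mul_inv_cancel]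
        rcases hall (hSD.le y.2) with h' | h' | h' | h' <;> rw [h']
        · exact mul_one 1
        · exact hzz
        · exact hye
        · calc z * e * (z * e) = z * (e * z) * e := by group
            _ = z * (z * e) * e := by rw [hez.eq]
            _ = (z * z) * (e * e) := by group
            _ = 1 := by rw [hzz, hye, one_mul]
      · calc 2 = orderOf z₀ := hz₀o.symm
          _ ∣ _ := Monoid.order_dvd_exponent z₀
    exact IsKleinFour.nonempty_mulEquiv

end CfsgLib.Recog.EPPOTwo
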