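import Cfsg.Agent.Lib.Recog.EPPOTwo.FourCase
import Cfsg.Agent.Lib.Involutions.StrongEmb
import Cfsg.Agent.S0340
import Cfsg.Agent.S0204

/-!
Without a self-centralising four-group the normaliser of a Sylow 2-subgroup is strongly embedded
and gives a Zassenhaus action.
-/

set_option autoImplicit false
set_option linter.style.haveILetI false
set_option linter.unusedSectionVars false

namespace CfsgLib.Recog.EPPOTwo

universe u

variable {G : Type u} [Group G] [Finite G]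

theorem IsTwo.conj {a : G} (h : IsTwo a) (g : G) : IsTwo (g * a * g⁻¹) := by
  obtain ⟨k, hk⟩ := h
  exact ⟨k, by rw [conj_pow, hk, mul_one, mul_inv_cancel]⟩

theorem mem_map_conj {g a : G} {H : Subgroup G} :
    a ∈ H.map (MulAut.conj g).toMonoidHom ↔ g⁻¹ * a * g ∈ H := Involutions.mem_conj_map

theorem map_conj_map (g : G) (K : Subgroup G) :
    (K.map (MulAut.conj g⁻¹).toMonoidHom).map (MulAut.conj g).toMonoidHom = K := by
  ext a
  rw [mem_map_conj, mem_map_conj]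
  group

theorem O2_map_conj (g : G) (M : Subgroup G) :
    (O2 M).map (MulAut.conj g).toMonoidHom ≤ O2 (M.map (MulAut.conj g).toMonoidHom) := by
  refine Base.le_map_pCore (Subgroup.map_mono (O2_le M)) (fun m hm => ?_)
    ((Base.isPGroup_map_pCore 2 M).map _)
  obtain ⟨m', hm', rfl⟩ := hm
  refine Subgroup.mem_normalizer_iff.2 fun a => ?_
  simp only [MulEquiv.coe_toMonoidHom, MulAut.conj_apply, mem_map_conj]
  have hn := Subgroup.mem_normalizer_iff.1 (Base.le_normalizer_map_pCore (p := 2) M hm') (g⁻¹ * a * g)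
  rw [hn]
  group

theorem Loc.map {M : Subgroup G} (hM : Loc M) (g : G) :
    Loc (M.map (MulAut.conj g).toMonoidHom) := by
  refine ⟨fun e => hM.nt ?_, fun h => hM.ncl ?_, fun K hK hKnt => ?_⟩
  · have h1 : (O2 M).map (MulAut.conj g).toMonoidHom = ⊥ := le_bot_iff.1 (e ▸ O2_map_conj g M)
    exact (Subgroup.map_eq_bot_iff_of_injective _ (MulEquiv.injective _)).1 h1
  · intro a ha b hb ha2 hb2
    have h1 := h _ (Subgroup.mem_map_of_mem _ ha) _ (Subgroup.mem_map_of_mem _ hb)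
      (ha2.conj g) (hb2.conj g)
    simp only [MulEquiv.coe_toMonoidHom, MulAut.conj_apply] at h1
    have h2 := h1.conj g⁻¹
    rwa [show g⁻¹ * (g * a * g⁻¹ * (g * b * g⁻¹)) * g⁻¹⁻¹ = a * b by group] at h2
  · have h1 : K.map (MulAut.conj g⁻¹).toMonoidHom = M := by
      refine hM.max _ (fun m hm => ?_) fun e => hKnt ?_
      · rw [mem_map_conj, inv_inv]
        exact hK (mem_map_conj.2 (by simpa [mul_assoc] using hm))
      · exact (Subgroup.map_eq_bot_iff_of_injective _ (MulEquiv.injective _)).1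
          (le_bot_iff.1 (e ▸ O2_map_conj g⁻¹ K))
    rw [← h1, map_conj_map]

theorem Ctx.not_isPGroup (hc : Ctx G) (p : ℕ) [Fact p.Prime] (h : IsPGroup p G) : False := by
  obtain ⟨n, hn⟩ := h.exists_card_eq
  have h3 := hc.three
  rw [hn] at h3
  rcases eq_or_ne n 0 with rfl | hn0
  · rw [pow_zero, Nat.primeFactors_one, Finset.card_empty] at h3
    omega
  · rw [Nat.primeFactors_prime_pow hn0 Fact.out, Finset.card_singleton] at h3
    omega

theorem Ctx.ne_top_of_O2 (hc : Ctx G) {K : Subgroup G} (hK : O2 K ≠ ⊥) : K ≠ ⊤ := by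
  rintro rfl
  haveI : Fact (Nat.Prime 2) := ⟨Nat.prime_two⟩
  haveI := hc.simple
  have hn : (O2 (⊤ : Subgroup G)).Normal := by
    refine ⟨fun a ha g => ?_⟩
    exact conj_mem_O2 (Subgroup.mem_top g) ha
  rcases hn.eq_bot_or_eq_top with h | h
  · exact hK h
  · exact hc.not_isPGroup 2 ((Base.isPGroup_map_pCore 2 (⊤ : Subgroup G)).of_equiv
      ((MulEquiv.subgroupCongr h).trans Subgroup.topEquiv))

theorem exists_isFullTwo_ge {P : Subgroup G} (hP : IsPGroup 2 P) :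
    ∃ S, P ≤ S ∧ IsFullTwo S := by
  obtain ⟨S, hS⟩ := hP.exists_le_sylow
  exact ⟨S, hS, S.isPGroup', fun Q hQ hle => S.is_maximal' hQ hle⟩

theorem IsFullTwo.map {S : Subgroup G} (h : IsFullTwo S) (g : G) :
    IsFullTwo (S.map (MulAut.conj g).toMonoidHom) := by
  refine ⟨h.1.map _, fun Q hQ hle => ?_⟩
  have h1 : Q.map (MulAut.conj g⁻¹).toMonoidHom = S := h.2 _ (hQ.map _) fun a ha => by
    rw [mem_map_conj, inv_inv]
    exact hle (mem_map_conj.2 (by simpa [mul_assoc] using ha))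
  rw [← h1, map_conj_map]

theorem IsFullTwo.tsyl {S M : Subgroup G} (h : IsFullTwo S) (hle : S ≤ M) : TSyl M S :=
  ⟨hle, h.1, fun Q hQ hSQ _ => h.2 Q hQ hSQ⟩

theorem eq_of_isFullTwo_le (hc : Ctx G) (hsf : ¬ SmallFour G) {M₁ M₂ S : Subgroup G}
    (hS : IsFullTwo S) (hM₁ : Loc M₁) (hM₂ : Loc M₂) (h₁ : S ≤ M₁) (h₂ : S ≤ M₂) : M₁ = M₂ :=
  (eq_or_smallFour hc hM₁ hM₂ (hS.tsyl h₁) (hS.tsyl h₂)).resolve_right hsf

theorem exists_normalizer_gt {P S : Subgroup G} (hS : IsPGroup 2 S) (hle : P ≤ S) (hne : P ≠ S) :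
    P < S ⊓ Subgroup.normalizer (P : Set G) := by
  haveI : Fact (Nat.Prime 2) := ⟨Nat.prime_two⟩
  have hlt : P.subgroupOf S < ⊤ := lt_top_iff_ne_top.2 fun h =>
    hne (le_antisymm hle (Subgroup.subgroupOf_eq_top.1 h))
  have h1 := Group.normalizerCondition_of_isNilpotent (h := hS.isNilpotent) _ hlt
  rw [← Subgroup.subgroupOf_normalizer_eq hle] at h1
  obtain ⟨g, hg, hg'⟩ := SetLike.exists_of_lt h1
  exact lt_of_le_of_ne (le_inf hle Subgroup.le_normalizer)
    fun e => hg' (by rw [Subgroup.mem_subgroupOf, e]; exact ⟨g.2, hg⟩)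

/-- Two intersecting Sylow 2-subgroups lie in a common maximal member or are equal. -/
theorem eq_or_exists_loc (hc : Ctx G) (hsf : ¬ SmallFour G) {S S' : Subgroup G} (hS : IsFullTwo S)
    (hS' : IsFullTwo S') (hne : S ⊓ S' ≠ ⊥) : S = S' ∨ ∃ M, Loc M ∧ S ≤ M ∧ S' ≤ M := by
  obtain ⟨n, hn⟩ : ∃ n, Nat.card G - Nat.card ↥(S ⊓ S') = n := ⟨_, rfl⟩
  induction n using Nat.strong_induction_on generalizing S S' with
  | _ n ih =>
  subst hn
  set P := S ⊓ S' with hP
  rcases eq_or_ne P S with hPS | hPS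
  · exact Or.inl (hS.2 S' hS'.1 (inf_eq_left.1 hPS)).symm
  rcases eq_or_ne P S' with hPS' | hPS'
  · exact Or.inl (hS'.2 S hS.1 (inf_eq_right.1 hPS'))
  set N := Subgroup.normalizer (P : Set G) with hN
  have hT₁ := exists_normalizer_gt hS.1 inf_le_left hPS
  have hT₂ := exists_normalizer_gt hS'.1 inf_le_right hPS'
  rw [← hN] at hT₁ hT₂
  have hNnt : O2 N ≠ ⊥ := fun e => hne (le_bot_iff.1
    (e ▸ Base.le_map_pCore Subgroup.le_normalizer le_rfl (hS.1.to_le inf_le_left)))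
  -- any full 2-subgroup meeting `S` or `S'` in more than `P`
  have step : ∀ {A B T : Subgroup G}, IsFullTwo A → IsFullTwo B → P < T → T ≤ A → T ≤ B →
      A = B ∨ ∃ M, Loc M ∧ A ≤ M ∧ B ≤ M := by
    intro A B T hA hB hPT hTA hTB
    have h1 : Nat.card P < Nat.card ↥(A ⊓ B) := by
      refine lt_of_lt_of_le ?_ (Subgroup.card_le_of_le (le_inf hTA hTB))
      refine lt_of_le_of_ne (Subgroup.card_le_of_le hPT.le) fun e => hPT.ne ?_
      exact Subgroup.eq_of_le_of_card_ge hPT.le e.ge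
    have h2 : Nat.card ↥(A ⊓ B) ≤ Nat.card G := Subgroup.card_le_card_group _
    refine ih _ (by omega) hA hB (fun e => hne ?_) rfl
    exact le_bot_iff.1 (e ▸ (hPT.le.trans (le_inf hTA hTB)))
  by_cases hcl : TwoClosed N
  · obtain ⟨S'', hS''ge, hS''⟩ := exists_isFullTwo_ge (Base.isPGroup_map_pCore 2 N)
    have hle₁ : S ⊓ N ≤ S'' := fun a ha =>
      hS''ge (hcl.mem_O2 ha.2 (isTwo_of_mem hS.1 ha.1))
    have hle₂ : S' ⊓ N ≤ S'' := fun a ha =>
      hS''ge (hcl.mem_O2 ha.2 (isTwo_of_mem hS'.1 ha.1))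
    rcases step hS hS'' hT₁ inf_le_left hle₁ with rfl | ⟨M₁, hM₁, hSM₁, hS''M₁⟩
    · exact step hS hS' hT₂ hle₂ inf_le_left
    rcases step hS'' hS' hT₂ hle₂ inf_le_left with rfl | ⟨M₂, hM₂, hS''M₂, hS'M₂⟩
    · exact Or.inr ⟨M₁, hM₁, hSM₁, hS''M₁⟩
    exact Or.inr ⟨M₁, hM₁, hSM₁, eq_of_isFullTwo_le hc hsf hS'' hM₁ hM₂ hS''M₁ hS''M₂ ▸ hS'M₂⟩
  · obtain ⟨M, hNM, hM⟩ := exists_loc_ge hNnt hcl
    have key : ∀ {A : Subgroup G}, IsFullTwo A → P < A ⊓ N → A ≤ M := by
      intro A hA hPA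
      obtain ⟨T, hT, hTM⟩ := exists_tsyl (M := M) (inf_le_right.trans hNM : A ⊓ N ≤ M)
        (hA.1.to_le inf_le_left)
      have hTf : IsFullTwo T := (isFullTwo_or_smallFour hc hM hTM).resolve_right hsf
      rcases step hA hTf hPA inf_le_left hT with rfl | ⟨M₁, hM₁, hAM₁, hTM₁⟩
      · exact hTM.le
      · exact eq_of_isFullTwo_le hc hsf hTf hM₁ hM hTM₁ hTM.le ▸ hAM₁
    exact Or.inr ⟨M, hM, key hS hT₁, key hS' hT₂⟩

theorem Loc.mem_of_map_eq {M : Subgroup G} (hM : Loc M) {g : G}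
    (h : M.map (MulAut.conj g).toMonoidHom = M) : g ∈ M := by
  have h1 : (O2 M).map (MulAut.conj g).toMonoidHom ≤ O2 M := by
    have := O2_map_conj g M
    rwa [h] at this
  refine hM.mem_of_conj (Subgroup.eq_of_le_of_card_ge h1 ?_)
  rw [Subgroup.card_map_of_injective (K := O2 M) (f := (MulAut.conj g).toMonoidHom)
    (MulEquiv.injective _)]

/-- No maximal member exists. -/
theorem not_loc (hc : Ctx G) (hsf : ¬ SmallFour G) (M : Subgroup G) : ¬ Loc M := by
  intro hM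
  have hnorm : ∀ D : Subgroup G, D ≤ M → IsPGroup 2 D → D ≠ ⊥ →
      Subgroup.normalizer (D : Set G) ≤ M := by
    intro D hDM hD hDne g hg
    obtain ⟨S, hDS, hT⟩ := exists_tsyl hDM hD
    have hS : IsFullTwo S := (isFullTwo_or_smallFour hc hM hT).resolve_right hsf
    set S' := S.map (MulAut.conj g).toMonoidHom with hS'
    have hDS' : D ≤ S' := fun d hd => by
      rw [hS', mem_map_conj]
      refine hDS ((Subgroup.mem_normalizer_iff.1 hg _).2 ?_)
      simpa [mul_assoc] using hd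
    have hne : S ⊓ S' ≠ ⊥ := fun e => hDne (le_bot_iff.1 (e ▸ le_inf hDS hDS'))
    have hS'M : S' ≤ M := by
      rcases eq_or_exists_loc hc hsf hS (hS.map g) hne with h | ⟨M₁, hM₁, h₁, h₂⟩
      · rw [hS', ← h]; exact hT.le
      · exact eq_of_isFullTwo_le hc hsf hS hM₁ hM h₁ hT.le ▸ h₂
    exact hM.mem_of_map_eq (eq_of_isFullTwo_le hc hsf (hS.map g) (hM.map g) hM
      (Subgroup.map_mono hT.le) hS'M)
  have hse : Cfsg.IsStronglyEmbedded M := by
    refine ⟨hc.ne_top_of_O2 hM.nt, ?_, fun g hg => ?_⟩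
    · rw [Involutions.even_card_iff]
      obtain ⟨t, ht, hto⟩ := exists_involution (Base.isPGroup_map_pCore 2 M) hM.nt
      exact ⟨t, O2_le M ht, hto⟩
    · rw [Involutions.odd_card_iff]
      intro t ht hto
      haveI : Fact (Nat.Prime 2) := ⟨Nat.prime_two⟩
      exact Involutions.not_le_inf_conj_of_normalizer_le M (fun D => D ≠ ⊥)
        (fun D E hle hD e => hD (le_bot_iff.1 (e ▸ hle))) hnorm hg (Subgroup.zpowers t)
        (IsPGroup.of_card (n := 1) (by rw [Nat.card_zpowers, hto, pow_one]))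
        (Subgroup.zpowers_le.2 ht)
        (fun e => by
          rw [Subgroup.zpowers_eq_bot] at e
          rw [e, orderOf_one] at hto
          exact absurd hto (by norm_num))
  obtain ⟨x, p, c⟩ := exists_core hc.hyp (hM.pre hc)
  obtain ⟨s, hsM, hso, hsD⟩ := c.invol
  obtain ⟨t, htD, hto⟩ := exists_involution (Base.isPGroup_map_pCore 2 M) hM.nt
  obtain ⟨g, hg⟩ := isConj_iff.1 (Involutions.SE.isConj hse hto hso)
  refine hsD (hg ▸ conj_mem_O2 ?_ htD)
  exact Involutions.SE.mem_of_conj hse hto (O2_le M htD) (hg.symm ▸ hsM)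

theorem eq_of_inf_ne_bot (hc : Ctx G) (hsf : ¬ SmallFour G) {S S' : Subgroup G}
    (hS : IsFullTwo S) (hS' : IsFullTwo S') (hne : S ⊓ S' ≠ ⊥) : S = S' := by
  rcases eq_or_exists_loc hc hsf hS hS' hne with h | ⟨M, hM, -⟩
  · exact h
  · exact absurd hM (not_loc hc hsf M)

theorem twoClosed_of_O2 (hc : Ctx G) (hsf : ¬ SmallFour G) {K : Subgroup G} (hK : O2 K ≠ ⊥) :
    TwoClosed K := by
  by_contra h
  obtain ⟨M, -, hM⟩ := exists_loc_ge hK h
  exact not_loc hc hsf M hM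

end CfsgLib.Recog.EPPOTwo
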