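import Cfsg.Agent.Lib.Recog.EPPOTwo.Basic
import Cfsg.Agent.Lib.Higman.LcsRing

/-!
Two index-two subgroups of a 2-group, each normalised by an element of order three acting without
fixed points and inverted modulo the subgroup.
-/

set_option autoImplicit false
set_option linter.style.haveILetI false
set_option linter.unusedSectionVars false

namespace CfsgLib.Recog.EPPOTwo

open scoped commutatorElement

universe u

variable {G : Type u} [Group G]

/-- The centre of a subgroup, inside the ambient group. -/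
abbrev ZC (D : Subgroup G) : Subgroup G := D ⊓ Subgroup.centralizer (D : Set G)

theorem mem_ZC {D : Subgroup G} {a : G} : a ∈ ZC D ↔ a ∈ D ∧ ∀ b ∈ D, Commute b a := by
  rw [Subgroup.mem_inf, Subgroup.mem_centralizer_iff]
  exact and_congr_right fun _ => forall₂_congr fun _ _ => Iff.rfl

/-- The elements of order at most two of the centre. -/
def OZ (D : Subgroup G) : Subgroup G where
  carrier := {v | v ∈ ZC D ∧ v * v = 1}
  one_mem' := ⟨one_mem _, one_mul _⟩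
  mul_mem' {a b} ha hb := ⟨mul_mem ha.1 hb.1, by
    have hc : Commute a b := (mem_ZC.1 hb.1).2 a (mem_ZC.1 ha.1).1
    calc a * b * (a * b) = a * (b * a) * b := by group
      _ = a * (a * b) * b := by rw [hc.eq]
      _ = (a * a) * (b * b) := by group
      _ = 1 := by rw [ha.2, hb.2, one_mul]⟩
  inv_mem' {a} ha := ⟨inv_mem ha.1, by rw [← mul_inv_rev, ha.2, inv_one]⟩

theorem mem_OZ {D : Subgroup G} {v : G} : v ∈ OZ D ↔ v ∈ ZC D ∧ v * v = 1 := Iff.rfl

/-- One side of the amalgam. -/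
structure Side (T D : Subgroup G) (x : G) : Prop where
  pD : IsPGroup 2 D
  le : D ≤ T
  idx : ∀ a ∈ T, ∀ b ∈ T, a ∉ D → b ∉ D → a * b ∈ D
  proper : ∃ t ∈ T, t ∉ D
  ord : orderOf x = 3
  norm : ∀ e ∈ D, x * e * x⁻¹ ∈ D
  inv : ∀ t ∈ T, t ∉ D → t * x * t⁻¹ * x ∈ D
  four : Nat.card (OZ D) ≤ 4
  cent : ∀ t ∈ T, t ∉ D → ∃ v ∈ OZ D, ¬ Commute t v

variable [Finite G] {T D : Subgroup G} {x : G}

namespace Side

variable (s : Side T D x)
include s

theorem conj_mem {t e : G} (ht : t ∈ T) (he : e ∈ D) : t * e * t⁻¹ ∈ D := by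
  by_cases h : t ∈ D
  · exact mul_mem (mul_mem h he) (inv_mem h)
  · exact s.idx _ (mul_mem ht (s.le he)) _ (inv_mem ht)
      (fun h' => h (by simpa using mul_mem h' (inv_mem he))) (fun h' => h (by simpa using inv_mem h'))

theorem x_pow_three : x ^ 3 = 1 := s.ord ▸ pow_orderOf_eq_one x

theorem x_not_mem : x ∉ D := fun h => by
  obtain ⟨k, hk⟩ := isTwo_of_mem s.pD h
  have := orderOf_dvd_of_pow_eq_one hk
  rw [s.ord] at this
  exact absurd ((Nat.prime_dvd_prime_iff_eq Nat.prime_three Nat.prime_two).1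
    (Nat.prime_three.dvd_of_dvd_pow this)) (by norm_num)

theorem inv_norm {e : G} (he : e ∈ D) : x⁻¹ * e * x ∈ D := by
  have h := s.norm _ (s.norm _ he)
  have h2 : x⁻¹ = x * x := inv_eq_of_mul_eq_one_right (by rw [← mul_assoc]; simpa [pow_succ] using s.x_pow_three)
  have : x⁻¹ * e * x = x * (x * e * x⁻¹) * x⁻¹ := by
    conv_lhs => rw [h2]
    conv_rhs => rw [show x⁻¹ = x * x from h2]
    have h3 : x * x * (x * x) = x := by
      rw [← mul_assoc, show x * x * x = 1 by simpa [pow_succ] using s.x_pow_three, one_mul]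
    calc x * x * e * x = x * x * e * (x * x * (x * x)) := by rw [h3]
      _ = _ := by group
  rw [this]
  exact h

theorem fpf (h : OrderHyp G) {a : G} (ha : a ∈ D) (hc : Commute x a) : a = 1 :=
  h.eq_one_of_commute Nat.prime_three (by norm_num) s.ord (isTwo_of_mem s.pD ha) hc

theorem triple (h : OrderHyp G) {e : G} (he : e ∈ D) :
    e * (x * e * x⁻¹) * (x * (x * e * x⁻¹) * x⁻¹) = 1 := by
  let f : D → D := fun a => ⟨(a : G)⁻¹ * (x * a * x⁻¹), mul_mem (inv_mem a.2) (s.norm _ a.2)⟩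
  have hf : Function.Injective f := by
    intro a b hab
    have h1 : (a : G)⁻¹ * (x * a * x⁻¹) = (b : G)⁻¹ * (x * b * x⁻¹) := congrArg Subtype.val hab
    have h2 : Commute x ((b : G) * (a : G)⁻¹) := by
      show x * ((b : G) * (a : G)⁻¹) = (b : G) * (a : G)⁻¹ * x
      calc x * ((b : G) * (a : G)⁻¹) = (x * b * x⁻¹) * (x * a * x⁻¹)⁻¹ * x := by group
        _ = (b : G) * ((b : G)⁻¹ * (x * b * x⁻¹)) * (x * a * x⁻¹)⁻¹ * x := by group
        _ = (b : G) * ((a : G)⁻¹ * (x * a * x⁻¹)) * (x * a * x⁻¹)⁻¹ * x := by rw [h1]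
        _ = _ := by group
    exact (Subtype.ext (mul_inv_eq_one.1 (s.fpf h (mul_mem b.2 (inv_mem a.2)) h2))).symm
  obtain ⟨a, ha⟩ := (Finite.injective_iff_surjective.1 hf) ⟨e, he⟩
  have ha' : (a : G)⁻¹ * (x * a * x⁻¹) = e := congrArg Subtype.val ha
  rw [← ha']
  calc (a : G)⁻¹ * (x * a * x⁻¹) * (x * ((a : G)⁻¹ * (x * a * x⁻¹)) * x⁻¹) *
      (x * (x * ((a : G)⁻¹ * (x * a * x⁻¹)) * x⁻¹) * x⁻¹)
        = (a : G)⁻¹ * ((x * x * x) * a * (x * x * x)⁻¹) := by group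
    _ = (a : G)⁻¹ * ((x ^ 3) * a * (x ^ 3)⁻¹) := by simp only [pow_succ, pow_zero, one_mul]
    _ = 1 := by rw [s.x_pow_three, inv_one, one_mul, mul_one, inv_mul_cancel]

theorem comm_conj (h : OrderHyp G) {e : G} (he : e ∈ D) : Commute e (x * e * x⁻¹) := by
  set e' := x * e * x⁻¹ with he'
  set e'' := x * e' * x⁻¹ with he''
  have h1 : e * e' * e'' = 1 := s.triple h he
  have h2 := s.triple h (inv_mem he)
  have hi : x * e⁻¹ * x⁻¹ = e'⁻¹ := by rw [he']; group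
  have hii : x * e'⁻¹ * x⁻¹ = e''⁻¹ := by rw [he'']; group
  rw [hi, hii] at h2
  have h3 : e'' = e'⁻¹ * e⁻¹ := by
    rw [← mul_inv_rev]; exact eq_inv_of_mul_eq_one_right h1
  rw [h3] at h2
  show e * e' = e' * e
  have h4 : e⁻¹ * e'⁻¹ * (e'⁻¹ * e⁻¹)⁻¹ = 1 := h2
  have h5 : e⁻¹ * e'⁻¹ = e'⁻¹ * e⁻¹ := mul_inv_eq_one.1 h4
  have h6 := congrArg (·⁻¹) h5
  simp only [mul_inv_rev, inv_inv] at h6
  exact h6.symm

/-- Class at most two. -/
theorem comm_central (h : OrderHyp G) {a b c : G} (ha : a ∈ D) (hb : b ∈ D) (hc : c ∈ D) :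
    Commute c ⁅a, b⁆ := by
  let f : D →* D := MonoidHom.mk' (fun e => ⟨x * e * x⁻¹, s.norm _ e.2⟩) fun e e' =>
    Subtype.ext (by show x * (e * e' : G) * x⁻¹ = (x * e * x⁻¹) * (x * e' * x⁻¹); group)
  have hf : Function.Injective f := fun e e' hee => Subtype.ext
    (mul_left_cancel (mul_right_cancel (congrArg Subtype.val hee)))
  let α : MulAut D := MulEquiv.ofBijective f ⟨hf, Finite.injective_iff_surjective.1 hf⟩
  have hα : α ^ 3 = 1 := MulEquiv.ext fun e => Subtype.ext (by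
    show x * (x * (x * (e : G) * x⁻¹) * x⁻¹) * x⁻¹ = e
    calc x * (x * (x * (e : G) * x⁻¹) * x⁻¹) * x⁻¹ = x ^ 3 * e * (x ^ 3)⁻¹ := by
          simp only [pow_succ, pow_zero, one_mul]; group
      _ = _ := by rw [s.x_pow_three, inv_one, one_mul, mul_one])
  have hfix : ∀ g : D, α g = g → g = 1 := fun g hg => Subtype.ext (s.fpf h g.2
    (mul_inv_eq_iff_eq_mul.1 (congrArg Subtype.val hg)))
  have h2 := (CfsgLib.Higman.lowerCentralSeries_eq_bot_of_fixedPointFree Nat.prime_three α hα hfix).2.1 rfl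
  have hmem : ∀ y : D, y ∈ CfsgLib.Higman.lcsTerm D 0 := fun y => by
    show y ∈ (⊤ : Subgroup D).lowerCentralSeries 0
    rw [Subgroup.lowerCentralSeries_zero]; exact Subgroup.mem_top _
  have h3 := CfsgLib.Higman.comm_mem_lcsTerm (CfsgLib.Higman.comm_mem_lcsTerm (hmem ⟨a, ha⟩)
    (hmem ⟨b, hb⟩)) (hmem ⟨c, hc⟩)
  rw [h2, Subgroup.mem_bot] at h3
  exact ((commutatorElement_eq_one_iff_mul_comm.1 (congrArg Subtype.val h3) :
    ⁅a, b⁆ * c = c * ⁅a, b⁆)).symm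

/-- No element is centralised by `t` and by a conjugate of `t`. -/
theorem fixed_trivial (h : OrderHyp G) {t a : G} (ht : t ∈ T) (htD : t ∉ D) (ha : a ∈ D)
    (h1 : Commute t a) (h2 : Commute t (x⁻¹ * a * x)) : a = 1 := by
  set d := t * x * t⁻¹ * x with hd
  have hdD : d ∈ D := s.inv t ht htD
  have hg3 : (d * x) ^ 3 = 1 := by
    calc (d * x) ^ 3 = d * (x * d * x⁻¹) * (x * (x * d * x⁻¹) * x⁻¹) * x ^ 3 := by
          simp only [pow_succ, pow_zero, one_mul]; group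
      _ = 1 := by rw [s.triple h hdD, s.x_pow_three, one_mul]
  have hg1 : d * x ≠ 1 := fun e => s.x_not_mem (by
    rw [eq_inv_of_mul_eq_one_right e]; exact inv_mem hdD)
  haveI : Fact (Nat.Prime 3) := ⟨Nat.prime_three⟩
  refine h.eq_one_of_commute Nat.prime_three (by norm_num) (orderOf_eq_prime hg3 hg1)
    (isTwo_of_mem s.pD ha) ?_
  have h3 : Commute (x * t * x⁻¹) a := by
    show x * t * x⁻¹ * a = a * (x * t * x⁻¹)
    calc x * t * x⁻¹ * a = x * (t * (x⁻¹ * a * x)) * x⁻¹ := by group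
      _ = x * (x⁻¹ * a * x * t) * x⁻¹ := by rw [h2.eq]
      _ = _ := by group
  have h4 : d * x = t * (x * t * x⁻¹)⁻¹ := by
    calc d * x = t * x * t⁻¹ * x⁻¹ * x ^ 3 := by rw [hd]; simp only [pow_succ, pow_zero, one_mul]; group
      _ = _ := by rw [s.x_pow_three, mul_one]; group
  rw [h4]
  exact h1.mul_left h3.inv_left

end Side

variable {D₁ D₂ : Subgroup G} {x₁ x₂ : G}

theorem exists_not_mem (s₁ : Side T D₁ x₁) (s₂ : Side T D₂ x₂) (hne : D₁ ≠ D₂) :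
    ∃ d ∈ D₁, d ∉ D₂ := by
  by_contra hall
  push Not at hall
  obtain ⟨u, hu, hu1⟩ : ∃ u ∈ D₂, u ∉ D₁ := by
    by_contra h'
    push Not at h'
    exact hne (le_antisymm hall h')
  obtain ⟨t, ht, ht2⟩ := s₂.proper
  have ht1 : t ∉ D₁ := fun e => ht2 (hall t e)
  exact ht2 (by simpa using mul_mem (inv_mem hu) (hall _ (s₁.idx u (s₂.le hu) t ht hu1 ht1)))

theorem commute_of_mem {D : Subgroup G} {x a d t : G} (s : Side T D x) (ha : ∀ e ∈ D, Commute e a)
    (hd : d ∈ T) (hdD : d ∉ D) (hda : Commute d a) (ht : t ∈ T) : Commute t a := by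
  by_cases h : t ∈ D
  · exact ha t h
  · have := (ha _ (s.idx t ht d hd h hdD)).mul_left hda.inv_left
    rwa [mul_inv_cancel_right] at this

/-- The amalgam lemma. -/
theorem card_le_four (h : OrderHyp G) (s₁ : Side T D₁ x₁) (s₂ : Side T D₂ x₂) (hne : D₁ ≠ D₂) :
    Nat.card D₁ ≤ 4 := by
  classical
  obtain ⟨d₁, hd₁, hd₁'⟩ := exists_not_mem s₁ s₂ hne
  obtain ⟨d₂, hd₂, hd₂'⟩ := exists_not_mem s₂ s₁ (Ne.symm hne)
  -- case one: a central element of `D₁` outside `D₂`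
  by_cases hw : ∃ w ∈ ZC D₁, w ∉ D₂
  · obtain ⟨w, hw, hw2⟩ := hw
    obtain ⟨hwD, hwc⟩ := mem_ZC.1 hw
    let f : D₂ → Bool × Bool := fun e => (decide ((e : G) ∈ D₁), decide (x₂⁻¹ * (e : G) * x₂ ∈ D₁))
    have hf : Function.Injective f := by
      intro a b hab
      simp only [f, Prod.mk.injEq, decide_eq_decide] at hab
      have key : ∀ p q : G, p ∈ D₂ → q ∈ D₂ → (p ∈ D₁ ↔ q ∈ D₁) → p⁻¹ * q ∈ D₁ := by
        intro p q hp hq hpq
        by_cases hp1 : p ∈ D₁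
        · exact mul_mem (inv_mem hp1) (hpq.1 hp1)
        · exact s₁.idx _ (inv_mem (s₂.le hp)) _ (s₂.le hq) (fun e => hp1 (by simpa using inv_mem e))
            (fun e => hp1 (hpq.2 e))
      have h1 := key _ _ a.2 b.2 hab.1
      have h2 := key _ _ (s₂.inv_norm a.2) (s₂.inv_norm b.2) hab.2
      have h2' : x₂⁻¹ * ((a : G)⁻¹ * b) * x₂ ∈ D₁ := by
        convert h2 using 1; group
      exact Subtype.ext (inv_mul_eq_one.1 (s₂.fixed_trivial h (s₁.le hwD) hw2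
        (mul_mem (inv_mem a.2) b.2) (hwc _ h1).symm (hwc _ h2').symm))
    have hcard : Nat.card D₂ ≤ 4 := (Nat.card_le_card_of_injective f hf).trans (by simp)
    have hhalf : 2 * Nat.card ↥(D₁ ⊓ D₂) ≤ Nat.card D₂ := by
      obtain ⟨m, hm⟩ := Subgroup.card_dvd_of_le (inf_le_right : D₁ ⊓ D₂ ≤ D₂)
      have hpos : 0 < Nat.card ↥(D₁ ⊓ D₂) := Nat.card_pos
      have hm1 : m ≠ 1 := fun e => hd₂' (by
        have := Subgroup.eq_of_le_of_card_ge (inf_le_right : D₁ ⊓ D₂ ≤ D₂) (by rw [hm, e, mul_one])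
        exact (this.ge hd₂).1)
      have hm0 : m ≠ 0 := fun e => by
        rw [e, mul_zero] at hm
        have : 0 < Nat.card D₂ := Nat.card_pos
        omega
      calc 2 * Nat.card ↥(D₁ ⊓ D₂) = Nat.card ↥(D₁ ⊓ D₂) * 2 := mul_comm _ _
        _ ≤ Nat.card ↥(D₁ ⊓ D₂) * m := Nat.mul_le_mul_left _ (by omega)
        _ = _ := hm.symm
    let g : D₁ → Bool × ↥(D₁ ⊓ D₂) := fun e =>
      if he : (e : G) ∈ D₂ then (true, ⟨e, e.2, he⟩)
      else (false, ⟨(e : G) * d₁, mul_mem e.2 hd₁, s₂.idx _ (s₁.le e.2) _ (s₁.le hd₁) he hd₁'⟩)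
    have hg : Function.Injective g := by
      intro a b hab
      simp only [g] at hab
      split_ifs at hab
      · exact Subtype.ext (congrArg (fun z : Bool × ↥(D₁ ⊓ D₂) => (z.2 : G)) hab)
      · simp at hab
      · simp at hab
      · exact Subtype.ext (mul_right_cancel
          (congrArg (fun z : Bool × ↥(D₁ ⊓ D₂) => (z.2 : G)) hab))
    have h3 := Nat.card_le_card_of_injective g hg
    rw [Nat.card_prod, show Nat.card Bool = 2 by simp] at h3
    omega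
  push Not at hw
  set Z₀ := ZC D₁ ⊓ ZC D₂ with hZ₀
  have hZT : ∀ a ∈ Z₀, ∀ t ∈ T, Commute t a := fun a ha t ht =>
    commute_of_mem s₁ (mem_ZC.1 ha.1).2 (s₂.le hd₂) hd₂' ((mem_ZC.1 ha.2).2 _ hd₂) ht
  obtain ⟨t₀, ht₀, ht₀'⟩ := s₁.proper
  have hZ0x : ∀ a ∈ Z₀, x₁⁻¹ * a * x₁ ∈ Z₀ → a = 1 := fun a ha ha' =>
    s₁.fixed_trivial h ht₀ ht₀' (mem_ZC.1 ha.1).1 (hZT a ha t₀ ht₀) (hZT _ ha' t₀ ht₀)
  -- the involutions of the centre fixed by `d₂`
  let Cd : Subgroup G := OZ D₁ ⊓ Subgroup.centralizer ({d₂} : Set G)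
  have hCd : Nat.card Cd ≤ 2 := by
    obtain ⟨m, hm⟩ : Nat.card Cd ∣ Nat.card (OZ D₁) := Subgroup.card_dvd_of_le inf_le_left
    have hpos : 0 < Nat.card Cd := Nat.card_pos
    have hpos' : 0 < Nat.card (OZ D₁) := Nat.card_pos
    have hm1 : m ≠ 1 := fun e => by
      obtain ⟨v, hv, hvc⟩ := s₁.cent d₂ (s₂.le hd₂) hd₂'
      have := Subgroup.eq_of_le_of_card_ge (inf_le_left : Cd ≤ OZ D₁) (by rw [hm, e, mul_one])
      exact hvc (Subgroup.mem_centralizer_singleton_iff.1 (this.ge hv).2).symm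
    have hm0 : m ≠ 0 := fun e => by rw [e, mul_zero] at hm; omega
    have h2 : Nat.card Cd * 2 ≤ Nat.card Cd * m := Nat.mul_le_mul_left _ (by omega)
    have := s₁.four
    omega
  have hval : ∀ a ∈ ZC D₁, ⁅d₂, a⁆ ∈ Cd ∧ (⁅d₂, a⁆ = 1 → a ∈ Z₀) := by
    intro a ha
    obtain ⟨haD, hac⟩ := mem_ZC.1 ha
    have ha2 : a ∈ D₂ := hw a ha
    have hconj : d₂ * a * d₂⁻¹ ∈ ZC D₁ := mem_ZC.2 ⟨s₁.conj_mem (s₂.le hd₂) haD, fun e he => by
      have h1 := hac _ (s₁.conj_mem (inv_mem (s₂.le hd₂)) he)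
      rw [inv_inv] at h1
      show e * (d₂ * a * d₂⁻¹) = d₂ * a * d₂⁻¹ * e
      calc e * (d₂ * a * d₂⁻¹) = d₂ * (d₂⁻¹ * e * d₂ * a) * d₂⁻¹ := by group
        _ = d₂ * (a * (d₂⁻¹ * e * d₂)) * d₂⁻¹ := by rw [h1.eq]
        _ = _ := by group⟩
    have hcZ : ⁅d₂, a⁆ ∈ ZC D₁ := by
      rw [commutatorElement_def]
      exact mul_mem hconj (inv_mem ha)
    have hcd : Commute d₂ ⁅d₂, a⁆ := s₂.comm_central h hd₂ ha2 hd₂
    refine ⟨⟨⟨hcZ, ?_⟩, Subgroup.mem_centralizer_singleton_iff.2 hcd.eq.symm⟩, fun h1 => ?_⟩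
    · have hsq : Commute (d₂ * d₂) a :=
        hac _ (s₁.idx d₂ (s₂.le hd₂) d₂ (s₂.le hd₂) hd₂' hd₂')
      calc ⁅d₂, a⁆ * ⁅d₂, a⁆ = ⁅d₂, a⁆ * (d₂ * a * d₂⁻¹ * a⁻¹) := by
            rw [← commutatorElement_def]
        _ = d₂ * ⁅d₂, a⁆ * a * d₂⁻¹ * a⁻¹ := by
            simp only [← mul_assoc]; rw [hcd.eq]
        _ = (d₂ * d₂) * a * (d₂ * d₂)⁻¹ * a⁻¹ := by rw [commutatorElement_def]; group
        _ = 1 := by rw [hsq.eq]; group
    · refine ⟨ha, mem_ZC.2 ⟨ha2, fun e he => ?_⟩⟩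
      exact commute_of_mem s₁ hac (s₂.le hd₂) hd₂'
        (commutatorElement_eq_one_iff_mul_comm.1 h1) (s₂.le he)
  have hidx : ∀ a ∈ ZC D₁, ∀ b ∈ ZC D₁, a ∉ Z₀ → b ∉ Z₀ → a⁻¹ * b ∈ Z₀ := by
    intro a ha b hb ha0 hb0
    have hae : ⁅d₂, a⁆ = ⁅d₂, b⁆ := by
      by_contra hne'
      let j : Fin 3 → Cd := ![1, ⟨_, (hval a ha).1⟩, ⟨_, (hval b hb).1⟩]
      have hj : Function.Injective j := by
        intro i k hik
        fin_cases i <;> fin_cases k <;>
          first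
          | rfl
          | exact absurd ((hval a ha).2 (congrArg Subtype.val hik)) ha0
          | exact absurd ((hval a ha).2 (congrArg Subtype.val hik).symm) ha0
          | exact absurd ((hval b hb).2 (congrArg Subtype.val hik)) hb0
          | exact absurd ((hval b hb).2 (congrArg Subtype.val hik).symm) hb0
          | exact absurd (congrArg Subtype.val hik) hne'
          | exact absurd (congrArg Subtype.val hik).symm hne'
      have := Nat.card_le_card_of_injective j hj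
      simp at this
      omega
    refine (hval _ (mul_mem (inv_mem ha) hb)).2 (commutatorElement_eq_one_iff_mul_comm.2 ?_)
    rw [commutatorElement_def, commutatorElement_def] at hae
    have hab : Commute a b := (mem_ZC.1 hb).2 a (mem_ZC.1 ha).1
    have h1 : d₂ * a * d₂⁻¹ * (a⁻¹ * b) = d₂ * b * d₂⁻¹ := by
      rw [← mul_assoc, hae, mul_assoc, inv_mul_cancel, mul_one]
    have h1' : a⁻¹ * b = (d₂ * a * d₂⁻¹)⁻¹ * (d₂ * b * d₂⁻¹) := eq_inv_mul_of_mul_eq h1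
    conv_rhs => rw [h1']
    group
  -- the order of the centre
  have hZ1 : Nat.card (ZC D₁) ≤ 4 := by
    let f : ZC D₁ → Bool × Bool := fun e =>
      (decide ((e : G) ∈ Z₀), decide (x₁⁻¹ * (e : G) * x₁ ∈ Z₀))
    refine (Nat.card_le_card_of_injective f ?_).trans (by simp)
    intro a b hab
    simp only [f, Prod.mk.injEq, decide_eq_decide] at hab
    have key : ∀ p q : G, p ∈ ZC D₁ → q ∈ ZC D₁ → (p ∈ Z₀ ↔ q ∈ Z₀) → p⁻¹ * q ∈ Z₀ := by
      intro p q hp hq hpq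
      by_cases hp1 : p ∈ Z₀
      · exact mul_mem (inv_mem hp1) (hpq.1 hp1)
      · exact hidx p hp q hq hp1 (fun e => hp1 (hpq.2 e))
    have hnx : ∀ p ∈ ZC D₁, x₁⁻¹ * p * x₁ ∈ ZC D₁ := fun p hp => by
      refine mem_ZC.2 ⟨s₁.inv_norm (mem_ZC.1 hp).1, fun e he => ?_⟩
      have h1 := (mem_ZC.1 hp).2 _ (s₁.norm e he)
      show e * (x₁⁻¹ * p * x₁) = x₁⁻¹ * p * x₁ * e
      calc e * (x₁⁻¹ * p * x₁) = x₁⁻¹ * ((x₁ * e * x₁⁻¹) * p) * x₁ := by group
        _ = x₁⁻¹ * (p * (x₁ * e * x₁⁻¹)) * x₁ := by rw [h1.eq]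
        _ = _ := by group
    have h1 := key _ _ a.2 b.2 hab.1
    have h2 := key _ _ (hnx _ a.2) (hnx _ b.2) hab.2
    refine Subtype.ext (inv_mul_eq_one.1 (hZ0x _ h1 ?_))
    convert h2 using 1; group
  have hZ0card : Nat.card Z₀ ≤ 2 := by
    obtain ⟨v, hv, hvc⟩ := s₁.cent d₂ (s₂.le hd₂) hd₂'
    obtain ⟨m, hm⟩ : Nat.card Z₀ ∣ Nat.card (ZC D₁) := Subgroup.card_dvd_of_le inf_le_left
    have hpos : 0 < Nat.card Z₀ := Nat.card_pos
    have hpos' : 0 < Nat.card (ZC D₁) := Nat.card_pos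
    have hm1 : m ≠ 1 := fun e => by
      have := Subgroup.eq_of_le_of_card_ge (inf_le_left : Z₀ ≤ ZC D₁) (by rw [hm, e, mul_one])
      exact hvc (hZT v (this.ge (mem_OZ.1 hv).1) d₂ (s₂.le hd₂))
    have hm0 : m ≠ 0 := fun e => by rw [e, mul_zero] at hm; omega
    have h2 : Nat.card Z₀ * 2 ≤ Nat.card Z₀ * m := Nat.mul_le_mul_left _ (by omega)
    omega
  -- `D₀` and its conjugates
  have hmul : ∀ a ∈ D₁, ∀ b ∈ D₁, a ∉ D₂ → b ∉ D₂ → a * b ∈ D₂ := fun a ha b hb =>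
    s₂.idx a (s₁.le ha) b (s₁.le hb)
  set σ : G → G := fun a => x₁ * a * x₁⁻¹ with hσ
  have hσD : ∀ a ∈ D₁, σ a ∈ D₁ := fun a ha => s₁.norm a ha
  have hσ3 : ∀ a, σ (σ (σ a)) = a := fun a => by
    calc x₁ * (x₁ * (x₁ * a * x₁⁻¹) * x₁⁻¹) * x₁⁻¹ = x₁ ^ 3 * a * (x₁ ^ 3)⁻¹ := by
          simp only [pow_succ, pow_zero, one_mul]; group
      _ = a := by rw [s₁.x_pow_three, inv_one, one_mul, mul_one]
  have hσm : ∀ a b, σ (a * b) = σ a * σ b := fun a b => by simp only [hσ]; group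
  have hσc : ∀ a b, σ ⁅a, b⁆ = ⁅σ a, σ b⁆ := fun a b => by
    simp only [hσ, commutatorElement_def]; group
  have hprod : ∀ a ∈ D₁, a * σ a * σ (σ a) = 1 := fun a ha => s₁.triple h ha
  have hpar : ∀ a ∈ D₁, a ∈ D₂ → σ a ∈ D₂ → σ (σ a) ∈ D₂ := fun a ha h1 h2 => by
    rw [eq_inv_of_mul_eq_one_right (hprod a ha)]
    exact inv_mem (mul_mem h1 h2)
  obtain ⟨e, he, he2, he2'⟩ : ∃ e ∈ D₁, e ∈ D₂ ∧ σ e ∉ D₂ := by
    by_contra hall
    push Not at hall
    have h1 : σ d₁ ∉ D₂ := fun h1 => hd₁' (by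
      rw [← hσ3 d₁]; exact hall _ (hσD _ (hσD _ hd₁)) (hall _ (hσD _ hd₁) h1))
    have h2 : σ (σ d₁) ∉ D₂ := fun h2 => hd₁' (by
      rw [← hσ3 d₁]; exact hall _ (hσD _ (hσD _ hd₁)) h2)
    have h3 := hmul _ hd₁ _ (hσD _ hd₁) hd₁' h1
    exact h2 (by rw [eq_inv_of_mul_eq_one_right (hprod d₁ hd₁)]; exact inv_mem h3)
  have he2'' : σ (σ e) ∉ D₂ := fun h' => he2' (by
    have h1 : σ e = e⁻¹ * (σ (σ e))⁻¹ := by
      have := hprod e he
      rw [mul_assoc, mul_eq_one_iff_eq_inv'] at this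
      rw [eq_inv_mul_iff_mul_eq]
      exact eq_inv_of_mul_eq_one_left (hprod e he)
    rw [h1]
    exact mul_mem (inv_mem he2) (inv_mem h'))
  have hcomm0 : ∀ a ∈ D₁, ∀ b ∈ D₁, a ∈ D₂ → b ∈ D₂ → ⁅a, b⁆ ∈ Z₀ := fun a ha b hb ha' hb' => by
    have hm : ∀ (H : Subgroup G), a ∈ H → b ∈ H → ⁅a, b⁆ ∈ H := fun H h1 h2 => by
      rw [commutatorElement_def]
      exact mul_mem (mul_mem (mul_mem h1 h2) (inv_mem h1)) (inv_mem h2)
    exact ⟨mem_ZC.2 ⟨hm _ ha hb, fun c hc => s₁.comm_central h ha hb hc⟩,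
      mem_ZC.2 ⟨hm _ ha' hb', fun c hc => s₂.comm_central h ha' hb' hc⟩⟩
  have hZσ : ∀ a ∈ Z₀, σ a ∈ Z₀ → a = 1 := fun a ha ha' => by
    have h1 := hZ0x (σ a) ha' (by simpa [hσ, mul_assoc] using ha)
    simpa [hσ] using h1
  -- elements of `K`
  let K : G → Prop := fun a => a ∈ D₁ ∧ a ∈ D₂ ∧ σ a ∈ D₂
  have hKσ : ∀ a, K a → K (σ a) := fun a ha =>
    ⟨hσD a ha.1, ha.2.2, hpar a ha.1 ha.2.1 ha.2.2⟩
  have hKab : ∀ a b, K a → K b → Commute a b := fun a b ha hb => by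
    rw [← commutatorElement_eq_one_iff_commute]
    refine hZσ _ (hcomm0 a ha.1 b hb.1 ha.2.1 hb.2.1) ?_
    rw [hσc]
    exact hcomm0 _ (hσD a ha.1) _ (hσD b hb.1) ha.2.2 hb.2.2
  have hCσ : ∀ k, K k → Commute k e → Commute k (σ e) := fun k hk hke => by
    have hkσ : ⁅k, σ e⁆ = σ ⁅σ (σ k), e⁆ := by rw [hσc, hσ3]
    have h1 : σ (σ k) ∈ D₂ := (hKσ _ hk).2.2
    have hin : ⁅σ (σ k), e⁆ ∈ Z₀ := hcomm0 _ (hσD _ (hσD _ hk.1)) e he h1 he2
    have hkσσ : ⁅k, σ (σ e)⁆ = σ (σ ⁅σ k, e⁆) := by rw [hσc, hσc, hσ3]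
    have hin' : ⁅σ k, e⁆ ∈ Z₀ := hcomm0 _ (hσD _ hk.1) e he hk.2.2 he2
    have hc1 : Commute (σ e) ⁅k, σ e⁆ := s₁.comm_central h hk.1 (hσD e he) (hσD e he)
    have hrel : ⁅k, σ (σ e)⁆ = ⁅k, σ e⁆⁻¹ := by
      rw [eq_inv_of_mul_eq_one_right (hprod e he)]
      have h2 : k * e * k⁻¹ = e := by rw [hke.eq, mul_inv_cancel_right]
      rw [commutatorElement_def, commutatorElement_def]
      calc k * (e * σ e)⁻¹ * k⁻¹ * ((e * σ e)⁻¹)⁻¹
          = (k * σ e * k⁻¹)⁻¹ * (k * e * k⁻¹)⁻¹ * e * σ e := by group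
        _ = (k * σ e * k⁻¹)⁻¹ * σ e := by rw [h2]; group
        _ = (σ e * (⁅k, σ e⁆))⁻¹ * σ e := by rw [hc1.eq, commutatorElement_def]; group
        _ = _ := by rw [commutatorElement_def]; group
    rw [← commutatorElement_eq_one_iff_commute, hkσ]
    have h3 : σ ⁅σ k, e⁆ = ⁅σ (σ k), e⁆⁻¹ := by
      rw [hkσ, hkσσ] at hrel
      have := congrArg (fun z => σ (σ z)) hrel
      simp only [hσ3] at this
      have hσi : ∀ b, σ b⁻¹ = (σ b)⁻¹ := fun b => by simp only [hσ]; group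
      rw [this, hσi, hσi, hσ3]
    have h4 : ⁅σ k, e⁆ = 1 := hZσ _ hin' (h3 ▸ inv_mem hin)
    have h5 : ⁅σ (σ k), e⁆ = 1 := by
      rw [h4, show σ 1 = 1 by simp [hσ]] at h3
      exact inv_eq_one.1 h3.symm
    rw [h5]
    simp [hσ]
  have hKe : ∀ k, K k → Commute k e := by
    by_contra hall
    push Not at hall
    obtain ⟨k, hk, hke⟩ := hall
    have hz : ∀ a b, K a → K b → ¬ Commute a e → ¬ Commute b e → Commute (b⁻¹ * a) e := by
      intro a b ha hb ha' hb'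
      have hae : ⁅a, e⁆ = ⁅b, e⁆ := by
        by_contra hne'
        let j : Fin 3 → Z₀ := ![1, ⟨_, hcomm0 a ha.1 e he ha.2.1 he2⟩,
          ⟨_, hcomm0 b hb.1 e he hb.2.1 he2⟩]
        have hj : Function.Injective j := by
          intro i l hil
          fin_cases i <;> fin_cases l <;>
            first
            | rfl
            | exact absurd (commutatorElement_eq_one_iff_commute.1 (congrArg Subtype.val hil)) ha'
            | exact absurd (commutatorElement_eq_one_iff_commute.1 (congrArg Subtype.val hil).symm) ha'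
            | exact absurd (commutatorElement_eq_one_iff_commute.1 (congrArg Subtype.val hil)) hb'
            | exact absurd (commutatorElement_eq_one_iff_commute.1 (congrArg Subtype.val hil).symm) hb'
            | exact absurd (congrArg Subtype.val hil) hne'
            | exact absurd (congrArg Subtype.val hil).symm hne'
        have := Nat.card_le_card_of_injective j hj
        simp at this
        omega
      rw [commutatorElement_def, commutatorElement_def, mul_left_inj] at hae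
      show b⁻¹ * a * e = e * (b⁻¹ * a)
      calc b⁻¹ * a * e = b⁻¹ * (a * e * a⁻¹) * a := by group
        _ = b⁻¹ * (b * e * b⁻¹) * a := by rw [hae]
        _ = _ := by group
    have hi : ∀ a, K a → Commute (σ a) e → Commute a e := fun a ha hc => by
      have h1 := hCσ _ (hKσ a ha) hc
      have h2 : Commute (σ a) (σ e) → Commute a e := fun h2 => by
        have h3 : σ (σ (σ a * σ e)) = σ (σ (σ e * σ a)) := by rw [h2.eq]
        simp only [hσm, hσ3] at h3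
        exact h3
      exact h2 h1
    have hk1 : ¬ Commute (σ k) e := fun hc => hke (hi k hk hc)
    have hk2 : ¬ Commute (σ (σ k)) e := fun hc => hk1 (hi _ (hKσ k hk) hc)
    have hKinv : K k⁻¹ := ⟨inv_mem hk.1, inv_mem hk.2.1, by
      have : σ k⁻¹ = (σ k)⁻¹ := by simp only [hσ]; group
      rw [this]; exact inv_mem hk.2.2⟩
    have hkinv : ¬ Commute k⁻¹ e := fun hc => hke (inv_inv k ▸ hc.inv_left)
    have h1 := hz _ _ (hKσ k hk) hKinv hk1 hkinv
    rw [inv_inv] at h1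
    apply hk2
    rw [eq_inv_of_mul_eq_one_right (hprod k hk.1)]
    exact h1.inv_left
  -- `D₁` is abelian
  have hgen : ∀ a ∈ D₁, ∃ k, K k ∧ (a = k ∨ a = k * e ∨ a = k * σ e ∨ a = k * σ (σ e)) := by
    intro a ha
    have hσi : ∀ b, σ b⁻¹ = (σ b)⁻¹ := fun b => by simp only [hσ]; group
    have nin : ∀ b, b ∉ D₂ → b⁻¹ ∉ D₂ := fun b hb hb' => hb (by simpa using inv_mem hb')
    by_cases h1 : a ∈ D₂ <;> by_cases h2 : σ a ∈ D₂
    · exact ⟨a, ⟨ha, h1, h2⟩, Or.inl rfl⟩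
    · refine ⟨a * e⁻¹, ⟨mul_mem ha (inv_mem he), mul_mem h1 (inv_mem he2), ?_⟩,
        Or.inr (Or.inl (by group))⟩
      rw [hσm, hσi]
      exact hmul _ (hσD a ha) _ (inv_mem (hσD e he)) h2 (nin _ he2')
    · refine ⟨a * (σ (σ e))⁻¹, ⟨mul_mem ha (inv_mem (hσD _ (hσD e he))), hmul _ ha _
        (inv_mem (hσD _ (hσD e he))) h1 (nin _ he2''), ?_⟩, Or.inr (Or.inr (Or.inr (by group)))⟩
      rw [hσm, hσi, hσ3]
      exact mul_mem h2 (inv_mem he2)
    · refine ⟨a * (σ e)⁻¹, ⟨mul_mem ha (inv_mem (hσD e he)), hmul _ ha _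
        (inv_mem (hσD e he)) h1 (nin _ he2'), ?_⟩, Or.inr (Or.inr (Or.inl (by group)))⟩
      rw [hσm, hσi]
      exact hmul _ (hσD a ha) _ (inv_mem (hσD _ (hσD e he))) h2 (nin _ he2'')
  have hK1 : ∀ k, K k → Commute k (σ e) := fun k hk => hCσ k hk (hKe k hk)
  have hK2 : ∀ k, K k → Commute k (σ (σ e)) := fun k hk => by
    rw [eq_inv_of_mul_eq_one_right (hprod e he)]
    exact ((hKe k hk).mul_right (hK1 k hk)).inv_right
  have hee : Commute e (σ e) := s₁.comm_conj h he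
  have hee2 : Commute e (σ (σ e)) := by
    rw [eq_inv_of_mul_eq_one_right (hprod e he)]
    exact ((Commute.refl e).mul_right hee).inv_right
  have hee3 : Commute (σ e) (σ (σ e)) := s₁.comm_conj h (hσD e he)
  have hab : ∀ a ∈ D₁, ∀ b ∈ D₁, Commute b a := by
    intro a ha b hb
    obtain ⟨k, hk, hka⟩ := hgen a ha
    obtain ⟨l, hl, hlb⟩ := hgen b hb
    have c := hKab k l hk hl
    rcases hka with rfl | rfl | rfl | rfl <;> rcases hlb with rfl | rfl | rfl | rfl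
    · exact c.symm
    · exact c.symm.mul_left (hKe _ hk).symm
    · exact c.symm.mul_left (hK1 _ hk).symm
    · exact c.symm.mul_left (hK2 _ hk).symm
    · exact c.symm.mul_right (hKe _ hl)
    · exact (c.symm.mul_left (hKe _ hk).symm).mul_right ((hKe _ hl).mul_left (Commute.refl e))
    · exact (c.symm.mul_left (hK1 _ hk).symm).mul_right ((hKe _ hl).mul_left hee.symm)
    · exact (c.symm.mul_left (hK2 _ hk).symm).mul_right ((hKe _ hl).mul_left hee2.symm)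
    · exact c.symm.mul_right (hK1 _ hl)
    · exact (c.symm.mul_left (hKe _ hk).symm).mul_right ((hK1 _ hl).mul_left hee)
    · exact (c.symm.mul_left (hK1 _ hk).symm).mul_right ((hK1 _ hl).mul_left (Commute.refl _))
    · exact (c.symm.mul_left (hK2 _ hk).symm).mul_right ((hK1 _ hl).mul_left hee3.symm)
    · exact c.symm.mul_right (hK2 _ hl)
    · exact (c.symm.mul_left (hKe _ hk).symm).mul_right ((hK2 _ hl).mul_left hee2)
    · exact (c.symm.mul_left (hK1 _ hk).symm).mul_right ((hK2 _ hl).mul_left hee3)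
    · exact (c.symm.mul_left (hK2 _ hk).symm).mul_right ((hK2 _ hl).mul_left (Commute.refl _))
  exact (Subgroup.card_le_of_le fun a ha => mem_ZC.2 ⟨ha, fun b hb => hab a ha b hb⟩).trans hZ1

end CfsgLib.Recog.EPPOTwo
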