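import Cfsg.Agent.Lib.Recog.EPPOTwo.Zassenhaus
import Cfsg.Agent.Lib.Recog.ProjSpectrum
import Cfsg.Agent.Lib.Small.Order168
import Cfsg.Agent.Lib.Small.PSLPrimes

/-!
The order of a group with three prime divisors and all element orders powers of two or primes
different from five is 168, and the group is simple.
-/

set_option autoImplicit false
set_option linter.style.haveILetI false
set_option linter.unusedSectionVars false

namespace CfsgLib.Recog.EPPOTwo

universe u

/-- An admissible element order. -/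
def GoodOrder (n : ℕ) : Prop := (∃ k : ℕ, n = 2 ^ k) ∨ (n.Prime ∧ n ≠ 5)

theorem GoodOrder.eq_of_dvd {n r : ℕ} (h : GoodOrder n) (hr : r.Prime) (hr2 : r ≠ 2) (hd : r ∣ n) :
    n = r ∧ r ≠ 5 := by
  rcases h with ⟨k, rfl⟩ | ⟨hn, h5⟩
  · exact absurd ((Nat.prime_dvd_prime_iff_eq hr Nat.prime_two).1 (hr.dvd_of_dvd_pow hd)) hr2
  · obtain rfl := (Nat.prime_dvd_prime_iff_eq hr hn).1 hd
    exact ⟨rfl, h5⟩

theorem pow_three_mod (f : ℕ) :
    (f % 2 = 0 → (3 ^ f % 5 = 1 ∨ 3 ^ f % 5 = 4) ∧ 3 ^ f % 8 = 1) ∧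
      (f % 2 = 1 → 3 ^ f % 8 = 3) := by
  induction f using Nat.strong_induction_on with
  | _ f ih =>
    rcases f with _ | _ | f
    · norm_num
    · norm_num
    · have h := ih f (by omega)
      have e : 3 ^ (f + 1 + 1) = 9 * 3 ^ f := by ring
      rw [e]
      refine ⟨fun h0 => ?_, fun h1 => ?_⟩
      · have := h.1 (by omega)
        omega
      · have := h.2 (by omega)
        omega

/-- Admissible spectra of `PSL₂(q)`. -/
theorem eq_seven {q p : ℕ} (hq : 2 ≤ q) (hp : p.Prime) (hqp : ∃ f, 0 < f ∧ q = p ^ f)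
    {a b : ℕ} (ha : q - 1 = a * (if p = 2 then 1 else 2))
    (hb : q + 1 = b * (if p = 2 then 1 else 2))
    (gp : GoodOrder p) (ga : GoodOrder a) (gb : GoodOrder b)
    (h3 : ∀ r s : ℕ, ¬ ∀ t : ℕ, t.Prime → t ∣ p * a * b → t = r ∨ t = s) : q = 7 := by
  obtain ⟨f, hf, rfl⟩ := hqp
  have hgood : ∀ {n : ℕ}, GoodOrder n → 5 ∣ n → False := fun h h5 =>
    (h.eq_of_dvd Nat.prime_five (by norm_num) h5).2 rfl
  have hthree : ∀ {n : ℕ}, GoodOrder n → 3 ∣ n → n = 3 := fun h h3' =>
    (h.eq_of_dvd Nat.prime_three (by norm_num) h3').1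
  rcases eq_or_ne p 3 with rfl | hp3
  · exfalso
    simp only [show (3 : ℕ) ≠ 2 by norm_num, if_false] at ha hb
    rcases Nat.mod_two_eq_zero_or_one f with hf0 | hf1
    · obtain ⟨h5, -⟩ := (pow_three_mod f).1 hf0
      rcases h5 with h5 | h5
      · exact hgood ga (by omega)
      · exact hgood gb (by omega)
    · have h8 := (pow_three_mod f).2 hf1
      have hb2 : b % 4 = 2 := by omega
      rcases gb with ⟨k, rfl⟩ | ⟨hbp, -⟩
      · have hk : k = 1 := by
          rcases k with _ | _ | k
          · omega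
          · rfl
          · rw [pow_succ, pow_succ] at hb2; omega
        subst hk
        have ha1 : a = 1 := by omega
        subst ha1
        refine h3 2 3 fun t ht htd => ?_
        have : t ∣ 2 * 3 := by simpa using htd
        rcases ht.dvd_mul.1 this with h | h
        · exact Or.inl ((Nat.prime_dvd_prime_iff_eq ht Nat.prime_two).1 h)
        · exact Or.inr ((Nat.prime_dvd_prime_iff_eq ht Nat.prime_three).1 h)
      · have : b = 2 := ((Nat.prime_dvd_prime_iff_eq Nat.prime_two hbp).1 (by omega)).symm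
        subst this
        have ha1 : a = 1 := by omega
        subst ha1
        refine h3 2 3 fun t ht htd => ?_
        have : t ∣ 2 * 3 := by simpa using htd
        rcases ht.dvd_mul.1 this with h | h
        · exact Or.inl ((Nat.prime_dvd_prime_iff_eq ht Nat.prime_two).1 h)
        · exact Or.inr ((Nat.prime_dvd_prime_iff_eq ht Nat.prime_three).1 h)
  · have hq3 : ¬ 3 ∣ p ^ f := fun h =>
      hp3 ((Nat.prime_dvd_prime_iff_eq Nat.prime_three hp).1 (Nat.prime_three.dvd_of_dvd_pow h)).symm
    rcases eq_or_ne p 2 with rfl | hp2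
    · exfalso
      simp only [if_true, mul_one] at ha hb
      have h : 3 ∣ a ∨ 3 ∣ b := by omega
      rcases h with h | h
      · have := hthree ga h
        subst this
        exact hgood gb (by omega)
      · have := hthree gb h
        subst this
        have : a = 1 := by omega
        subst this
        refine h3 2 3 fun t ht htd => ?_
        have : t ∣ 2 * 3 := by simpa using htd
        rcases ht.dvd_mul.1 this with h | h
        · exact Or.inl ((Nat.prime_dvd_prime_iff_eq ht Nat.prime_two).1 h)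
        · exact Or.inr ((Nat.prime_dvd_prime_iff_eq ht Nat.prime_three).1 h)
    · simp only [hp2, if_false] at ha hb
      have h : 3 ∣ a ∨ 3 ∣ b := by
        have hm : p ^ f % 3 ≠ 0 := fun h => hq3 (Nat.dvd_of_mod_eq_zero h)
        generalize p ^ f = q at ha hb hm hq
        rcases (show a % 3 = 0 ∨ a % 3 = 1 ∨ a % 3 = 2 by omega) with e | e | e
        · exact Or.inl (Nat.dvd_of_mod_eq_zero e)
        · exfalso; omega
        · exact Or.inr (Nat.dvd_of_mod_eq_zero (by omega))
      rcases h with h | h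
      · have := hthree ga h
        omega
      · have h1 := hthree gb h
        exfalso
        have h5 : p ^ f = 5 := by omega
        exact hgood gp (by
          have := (Nat.prime_dvd_prime_iff_eq hp Nat.prime_five).1
            (h5 ▸ dvd_pow_self p (by omega : f ≠ 0))
          exact this ▸ dvd_rfl)

/-- The field of an admissible `PSL₂` has seven elements. -/
theorem card_eq_seven {F : Type*} [Field F] [Fintype F] {G : Type u} [Group G] [Finite G]
    (e : G ≃* Matrix.ProjectiveSpecialLinearGroup (Fin 2) F) (h : OrderHyp G)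
    (h3 : 3 ≤ (Nat.card G).primeFactors.card) : Fintype.card F = 7 := by
  classical
  set p := ringChar F with hpdef
  haveI : CharP F p := ringChar.charP F
  obtain ⟨f, hp, hf⟩ := FiniteField.card F p
  haveI : Fact p.Prime := ⟨hp⟩
  set q := Fintype.card F with hq
  have hq2 : 2 ≤ q := Fintype.one_lt_card
  have hd : dTwo F = if p = 2 then 1 else 2 := by
    have hev : Even q ↔ p = 2 := by
      rw [hf, Nat.even_pow, Nat.even_iff, ← Nat.Prime.eq_two_or_odd hp |>.elim
        (fun e => (by simp [e] : (p = 2 ↔ p % 2 = 0))) (fun e => (by constructor <;> intro h <;> omega :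
          (p = 2 ↔ p % 2 = 0)))]
      simp [f.pos.ne']
    unfold dTwo
    by_cases h2 : p = 2
    · rw [if_pos h2, if_pos (by rw [← hq]; exact hev.2 h2)]
    · rw [if_neg h2, if_neg (by rw [← hq]; exact fun he => h2 (hev.1 he))]
  have hspec : ∀ n, (∃ g : G, orderOf g = n) ↔
      n = p ∨ n ∣ (q - 1) / dTwo F ∨ n ∣ (q + 1) / dTwo F := by
    intro n
    rw [hq]
    have hr := Set.ext_iff.1 (range_orderOf_PSL_two (F := F) p) n
    simp only [Set.mem_range, Set.mem_setOf_eq] at hr
    rw [← hr]
    exact ⟨fun ⟨g, hg⟩ => ⟨e g, by rw [MulEquiv.orderOf_eq, hg]⟩,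
      fun ⟨g, hg⟩ => ⟨e.symm g, by rw [MulEquiv.orderOf_eq, hg]⟩⟩
  have hgood : ∀ n, (∃ g : G, orderOf g = n) → GoodOrder n := by
    rintro n ⟨g, rfl⟩
    rcases eq_or_ne g 1 with rfl | hg
    · exact Or.inl ⟨0, by rw [orderOf_one, pow_zero]⟩
    · exact h g hg
  have ha : q - 1 = (q - 1) / dTwo F * (if p = 2 then 1 else 2) := by
    rw [← hd]; exact (Nat.div_mul_cancel dTwo_dvd_card_sub_one).symm
  have hb : q + 1 = (q + 1) / dTwo F * (if p = 2 then 1 else 2) := by
    rw [← hd]; exact (Nat.div_mul_cancel dTwo_dvd_card_add_one).symm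
  refine eq_seven hq2 hp ⟨f, f.pos, hf⟩ ha hb (hgood _ ((hspec p).2 (Or.inl rfl)))
    (hgood _ ((hspec _).2 (Or.inr (Or.inl dvd_rfl))))
    (hgood _ ((hspec _).2 (Or.inr (Or.inr dvd_rfl)))) fun r s hrs => ?_
  have hsub : (Nat.card G).primeFactors ⊆ {r, s} := by
    intro t ht
    obtain ⟨htp, htd, -⟩ := Nat.mem_primeFactors.1 ht
    haveI : Fact t.Prime := ⟨htp⟩
    obtain ⟨g, hg⟩ := exists_prime_orderOf_dvd_card' (G := G) t htd
    have h1 : t ∣ p * ((q - 1) / dTwo F) * ((q + 1) / dTwo F) := by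
      rcases (hspec t).1 ⟨g, hg⟩ with h' | h' | h'
      · exact h' ▸ Dvd.intro _ (mul_assoc _ _ _).symm
      · exact (h'.mul_left p).mul_right _
      · exact h'.mul_left _
    simpa using hrs t htp h1
  have h4 := (Finset.card_le_card hsub).trans Finset.card_le_two
  omega

theorem seven_aut : ∀ a b : ZMod 7, a ^ 3 = 1 → a ≠ 1 → b ≠ 0 →
    a ^ 0 * b ^ 2 = 1 ∨ a ^ 1 * b ^ 2 = 1 ∨ a ^ 2 * b ^ 2 = 1 := by decide

theorem three_aut : ∀ a b : ZMod 3, a ≠ 0 → a ≠ 1 → b ≠ 0 → b = 1 ∨ a * b = 1 := by decide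

variable {G : Type u} [Group G] [Finite G]

theorem exists_exp {r : ℕ} (hr : r.Prime) {w g : G} (hw : orderOf w = r)
    (hg : g * w * g⁻¹ ∈ Subgroup.zpowers w) :
    ∃ b : ℕ, g * w * g⁻¹ = w ^ b ∧ (b : ZMod r) ≠ 0 := by
  classical
  obtain ⟨b, -, hb⟩ := Finset.mem_image.1 (mem_zpowers_iff_mem_range_orderOf.1 hg)
  refine ⟨b, hb.symm, fun h => ?_⟩
  rw [ZMod.natCast_eq_zero_iff, ← hw, orderOf_dvd_iff_pow_eq_one] at h
  have h1 : w = 1 := by
    have := hb.symm.trans h
    rwa [mul_inv_eq_one, mul_eq_left] at this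
  rw [h1, orderOf_one] at hw
  exact hr.one_lt.ne hw

theorem exp_mul {w g g' : G} {b b' : ℕ} (h : g * w * g⁻¹ = w ^ b) (h' : g' * w * g'⁻¹ = w ^ b') :
    g' * g * w * (g' * g)⁻¹ = w ^ (b' * b) := by
  calc g' * g * w * (g' * g)⁻¹ = g' * (g * w * g⁻¹) * g'⁻¹ := by group
    _ = (g' * w * g'⁻¹) ^ b := by rw [h, conj_pow]
    _ = _ := by rw [h', pow_mul]

theorem commute_of_exp {r : ℕ} {w g : G} {b : ℕ} (hw : orderOf w = r)
    (h : g * w * g⁻¹ = w ^ b) (hb : (b : ZMod r) = 1) : Commute g w := by
  refine mul_inv_eq_iff_eq_mul.1 (h.trans ?_)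
  nth_rewrite 2 [← pow_one w]
  rw [pow_eq_pow_iff_modEq, hw, ← ZMod.natCast_eq_natCast_iff, hb, Nat.cast_one]

/-- A normal subgroup of order 168 in a larger group is impossible. -/
theorem false_of_normal_168 (h : OrderHyp G) {N : Subgroup G} [N.Normal] (hN : N ≠ ⊤)
    [IsSimpleGroup N] (h168 : Nat.card N = 168) : False := by
  haveI : Fact (Nat.Prime 3) := ⟨Nat.prime_three⟩
  haveI : Fact (Nat.Prime 7) := ⟨by norm_num⟩
  set q : G →* G ⧸ N := QuotientGroup.mk' N with hq
  have hmap : ∀ g ∈ N, q g = 1 := fun g hg => (QuotientGroup.eq_one_iff g).2 hg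
  -- a Sylow subgroup of `N` of order `r` and its normaliser in `G`
  have key : ∀ r : ℕ, r.Prime → r ≠ 2 → (∀ P : Sylow r N, Nat.card P = r) → ∀ (P : Sylow r N)
      (c : G), ∃ (w g : G), orderOf w = r ∧ g * w * g⁻¹ ∈ Subgroup.zpowers w ∧ q g = q c ∧
        (P : Subgroup N).map N.subtype = Subgroup.zpowers w := by
    intro r hr _ hcard P c
    haveI : Fact r.Prime := ⟨hr⟩
    obtain ⟨w, hw⟩ := exists_prime_orderOf_dvd_card' (G := P) r (by rw [hcard])
    have hwo : orderOf ((w : N) : G) = r := by rw [Subgroup.orderOf_coe, Subgroup.orderOf_coe, hw]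
    have hP : (P : Subgroup N).map N.subtype = Subgroup.zpowers ((w : N) : G) :=
      (Subgroup.eq_of_le_of_card_ge (Subgroup.zpowers_le.2
        (show ((w : N) : G) ∈ _ from Subgroup.mem_map_of_mem N.subtype w.2)) (by
        rw [Subgroup.card_map_of_injective N.subtype_injective, Nat.card_zpowers, hwo]
        exact (hcard P).le)).symm
    have htop := Sylow.normalizer_sup_eq_top P
    have hc : c ∈ Subgroup.normalizer (((P : Subgroup N).map N.subtype : Subgroup G) : Set G) ⊔ N :=
      htop.symm ▸ Subgroup.mem_top c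
    rw [Subgroup.mem_sup_of_normal_right] at hc
    obtain ⟨g, hg, k, hk, rfl⟩ := hc
    refine ⟨_, g, hwo, ?_, by rw [map_mul, hmap k hk, mul_one], hP⟩
    rw [← hP]
    exact (Subgroup.mem_normalizer_iff.1 hg _).1 ⟨w, w.2, rfl⟩
  obtain ⟨P3⟩ := (inferInstance : Nonempty (Sylow 3 N))
  obtain ⟨P7⟩ := (inferInstance : Nonempty (Sylow 7 N))
  -- elements inverting, and acting with order three
  have hthree : ∀ c : G, (q c) ^ 3 = 1 := by
    intro c
    obtain ⟨w, g, hw, hg, hgc, hP⟩ := key 3 Nat.prime_three (by norm_num)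
      (Small.card_sylow3 h168) P3 c
    obtain ⟨b, hb, hb0⟩ := exists_exp Nat.prime_three hw hg
    obtain ⟨n, hn, hnc⟩ : ∃ n : N, n ∈ Subgroup.normalizer ((P3 : Subgroup N) : Set N) ∧
        ¬ Commute (n : G) w := by
      by_contra hall
      push Not at hall
      have hle : Subgroup.normalizer ((P3 : Subgroup N) : Set N) ≤
          Subgroup.centralizer ((P3 : Subgroup N) : Set N) := fun n hn => by
        refine Subgroup.mem_centralizer_iff.2 fun a ha => Subtype.ext ?_
        obtain ⟨i, hi⟩ := Subgroup.mem_zpowers_iff.1 (hP ▸ Subgroup.mem_map_of_mem N.subtype ha)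
        show (a : G) * n = n * a
        rw [show (a : G) = w ^ i from hi.symm]
        exact ((hall n hn).zpow_right i).eq.symm
      have h1 := Subgroup.card_le_of_le hle
      rw [Small.normalizer3 h168 P3, Small.centralizer3 h168 P3] at h1
      omega
    have hnw : (n : G) * w * (n : G)⁻¹ ∈ Subgroup.zpowers w := by
      rw [← hP]
      obtain ⟨a, ha, rfl⟩ : w ∈ (P3 : Subgroup N).map N.subtype := hP ▸ Subgroup.mem_zpowers w
      exact ⟨n * a * n⁻¹, (Subgroup.mem_normalizer_iff.1 hn a).1 ha, rfl⟩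
    obtain ⟨a, ha, ha0⟩ := exists_exp Nat.prime_three hw hnw
    have ha1 : (a : ZMod 3) ≠ 1 := fun e => hnc (commute_of_exp hw ha e)
    rcases three_aut _ _ ha0 ha1 hb0 with e | e
    · rw [← hgc, ← map_pow, h.pow_eq_one Nat.prime_three (by norm_num) hw
        (commute_of_exp hw hb e).symm, map_one]
    · have hc' : Commute ((n : G) * g) w :=
        commute_of_exp hw (exp_mul hb ha) (by rw [Nat.cast_mul, e])
      have h1 := congrArg q (h.pow_eq_one Nat.prime_three (by norm_num) hw hc'.symm)
      rwa [map_pow, map_mul, hmap _ n.2, one_mul, map_one, hgc] at h1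
  have hseven : ∀ c : G, (q c) ^ 14 = 1 := by
    intro c
    obtain ⟨w, g, hw, hg, hgc, hP⟩ := key 7 (by norm_num) (by norm_num)
      (Small.card_sylow7 h168) P7 c
    obtain ⟨b, hb, hb0⟩ := exists_exp (by norm_num) hw hg
    have h3 : 3 ∣ Nat.card (Subgroup.normalizer ((P7 : Subgroup N) : Set N)) := by
      rw [Small.normalizer7 h168 P7]; norm_num
    obtain ⟨y, hy⟩ := exists_prime_orderOf_dvd_card'
      (G := Subgroup.normalizer ((P7 : Subgroup N) : Set N)) 3 h3
    set n : G := ((y : N) : G)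
    have hno : orderOf n = 3 := by rw [Subgroup.orderOf_coe, Subgroup.orderOf_coe, hy]
    have hnN : n ∈ N := (y : N).2
    have hnw : n * w * n⁻¹ ∈ Subgroup.zpowers w := by
      rw [← hP]
      obtain ⟨a, ha, rfl⟩ : w ∈ (P7 : Subgroup N).map N.subtype := hP ▸ Subgroup.mem_zpowers w
      exact ⟨(y : N) * a * (y : N)⁻¹, (Subgroup.mem_normalizer_iff.1 y.2 a).1 ha, rfl⟩
    obtain ⟨a, ha, ha0⟩ := exists_exp (by norm_num) hw hnw
    have ha1 : (a : ZMod 7) ≠ 1 := fun e => by
      have h1 := orderOf_dvd_of_pow_eq_one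
        (h.pow_eq_one (by norm_num) (by norm_num) hw (commute_of_exp hw ha e).symm)
      rw [hno] at h1
      omega
    have ha3 : (a : ZMod 7) ^ 3 = 1 := by
      have h1 := exp_mul ha (exp_mul ha ha)
      rw [show n * n * n = 1 by
        rw [← pow_two, ← pow_succ, show (2 + 1) = orderOf n from hno.symm, pow_orderOf_eq_one],
        one_mul, inv_one, mul_one] at h1
      nth_rewrite 1 [← pow_one w] at h1
      rw [pow_eq_pow_iff_modEq, hw, ← ZMod.natCast_eq_natCast_iff] at h1
      push_cast at h1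
      rw [h1]; ring
    have hb2 := exp_mul hb hb
    rcases seven_aut _ _ ha3 ha1 hb0 with e | e | e
    · have h1 := congrArg q (h.pow_eq_one (by norm_num) (by norm_num) hw
        (commute_of_exp hw hb2 (by push_cast; linear_combination e)).symm)
      rw [map_pow, map_mul, map_one, hgc, ← pow_two, ← pow_mul] at h1
      exact h1
    · have h1 := congrArg q (h.pow_eq_one (by norm_num) (by norm_num) hw
        (commute_of_exp hw (exp_mul hb2 ha) (by push_cast; linear_combination e)).symm)
      rw [map_pow, map_mul, map_mul, hmap _ hnN, one_mul, map_one, hgc, ← pow_two, ← pow_mul] at h1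
      exact h1
    · have h1 := congrArg q (h.pow_eq_one (by norm_num) (by norm_num) hw
        (commute_of_exp hw (exp_mul hb2 (exp_mul ha ha)) (by push_cast; linear_combination e)).symm)
      rw [map_pow, map_mul, map_mul, map_mul, hmap _ hnN, one_mul, one_mul, map_one, hgc,
        ← pow_two, ← pow_mul] at h1
      exact h1
  refine hN (Subgroup.eq_top_iff' _ |>.2 fun c => (QuotientGroup.eq_one_iff c).1 ?_)
  have h1 : q c ^ Nat.gcd 3 14 = 1 := pow_gcd_eq_one.2 ⟨hthree c, hseven c⟩
  rwa [show Nat.gcd 3 14 = 1 by norm_num, pow_one] at h1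

/-- An abelian normal subgroup below a quotient of order 168 is impossible. -/
theorem false_of_solvable_normal (h : OrderHyp G) {N : Subgroup G} (hN : Base.IsMinimalNormal N)
    (hs : Group.IsSolvable N) [hNn : N.Normal] [IsSimpleGroup (G ⧸ N)]
    (h168 : Nat.card (G ⧸ N) = 168) : False := by
  obtain ⟨r, hr, hcomm, hpow, hrN⟩ := hN.exists_prime hs
  haveI : Fact r.Prime := ⟨hr⟩
  obtain ⟨v₀, hv₀, hv₀1⟩ := (Subgroup.bot_or_exists_ne_one N).resolve_left hN.ne_bot
  set q : G →* G ⧸ N := QuotientGroup.mk' N with hq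
  have hqs : Function.Surjective q := QuotientGroup.mk'_surjective N
  have hQh : OrderHyp (G ⧸ N) := h.of_surjective q hqs
  have hlift : ∀ {p : ℕ}, p.Prime → p ≠ 2 → ∀ c : G ⧸ N, orderOf c = p →
      ∃ x, q x = c ∧ orderOf x = p := by
    intro p hp hp2 c hc
    obtain ⟨x, rfl⟩ := hqs c
    refine ⟨x, rfl, h.orderOf_eq (fun e => ?_) hp hp2 (hc ▸ orderOf_map_dvd q x)⟩
    rw [e, map_one, orderOf_one] at hc
    exact hp.one_lt.ne hc
  rcases eq_or_ne r 2 with rfl | hr2
  · haveI : Fact (Nat.Prime 7) := ⟨by norm_num⟩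
    haveI : Fact (Nat.Prime 3) := ⟨Nat.prime_three⟩
    obtain ⟨P⟩ := (inferInstance : Nonempty (Sylow 7 (G ⧸ N)))
    obtain ⟨w, hw⟩ := exists_prime_orderOf_dvd_card' (G := P) 7
      (by rw [Small.card_sylow7 h168 P])
    have h3 : 3 ∣ Nat.card (Subgroup.normalizer ((P : Subgroup (G ⧸ N)) : Set (G ⧸ N))) := by
      rw [Small.normalizer7 h168 P]; norm_num
    obtain ⟨y, hy⟩ := exists_prime_orderOf_dvd_card'
      (G := Subgroup.normalizer ((P : Subgroup (G ⧸ N)) : Set (G ⧸ N))) 3 h3
    have hwo : orderOf (w : G ⧸ N) = 7 := by rw [Subgroup.orderOf_coe, hw]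
    have hyo : orderOf (y : G ⧸ N) = 3 := by rw [Subgroup.orderOf_coe, hy]
    obtain ⟨x₇, hx₇, hx₇o⟩ := hlift (by norm_num) (by norm_num) _ hwo
    obtain ⟨x₃, hx₃, hx₃o⟩ := hlift Nat.prime_three (by norm_num) _ hyo
    letI : CommGroup N :=
      { (inferInstance : Group N) with mul_comm := fun a b => hcomm.is_comm.comm a b }
    let φ : (G ⧸ N) →* MulAut N := QuotientGroup.lift N MulAut.conjNormal (fun n hn => by
      refine MonoidHom.mem_ker.2 (MulEquiv.ext fun a => Subtype.ext ?_)
      have := congrArg Subtype.val (mul_comm (⟨n, hn⟩ : N) a)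
      simp only [Subgroup.coe_mul] at this
      simp [MulAut.conjNormal_apply, this])
    have hφ : ∀ (x : G) (v : N), φ (q x) v = v → Commute x (v : G) := by
      intro x v hv
      have h1 : x * (v : G) * x⁻¹ = v := by
        have := congrArg Subtype.val hv
        simpa [φ, hq, MulAut.conjNormal_apply] using this
      exact mul_inv_eq_iff_eq_mul.1 h1
    have h2 : ∀ v : N, IsTwo (v : G) := fun v => isTwo_of_mem hrN v.2
    have hgen : Subgroup.zpowers (w : G ⧸ N) = (P : Subgroup (G ⧸ N)) :=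
      Subgroup.eq_of_le_of_card_ge (Subgroup.zpowers_le.2 w.2)
        (by rw [Nat.card_zpowers, hwo]; exact (Small.card_sylow7 h168 P).le)
    have h7 := pow_card_eq_one_of_frobenius φ (Subgroup.zpowers (w : G ⧸ N)) (y : G ⧸ N)
      Nat.prime_three (hyo ▸ pow_orderOf_eq_one _)
      (fun e he => by
        rw [hgen] at he ⊢
        exact (Subgroup.mem_normalizer_iff.1 y.2 e).1 he)
      (fun e he hye => by
        by_contra he1
        have h1 := hQh.pow_eq_one (by norm_num : Nat.Prime 7) (by norm_num) ?_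
          (mul_inv_eq_iff_eq_mul.1 hye : Commute (y : G ⧸ N) e).symm
        · have := orderOf_dvd_of_pow_eq_one h1
          rw [hyo] at this
          omega
        · have h2 : orderOf e ∣ 7 := hwo ▸ orderOf_dvd_of_mem_zpowers he
          rcases (Nat.dvd_prime (by norm_num)).1 h2 with e' | e'
          · exact absurd (orderOf_eq_one_iff.1 e') he1
          · exact e')
      (fun v hv => Subtype.ext (h.eq_one_of_commute (by norm_num) (by norm_num) hx₇o (h2 v)
        (hφ x₇ v (hx₇ ▸ hv _ (hx₇ ▸ Subgroup.mem_zpowers _)))))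
      (fun v hv => Subtype.ext (h.eq_one_of_commute Nat.prime_three (by norm_num) hx₃o (h2 v)
        (hφ x₃ v (hx₃ ▸ hv)))) ⟨v₀, hv₀⟩
    rw [Nat.card_zpowers, hwo] at h7
    have h7' : v₀ ^ 7 = 1 := congrArg Subtype.val h7
    have h1 : v₀ ^ Nat.gcd 7 2 = 1 := pow_gcd_eq_one.2 ⟨h7', hpow v₀ hv₀⟩
    rw [show Nat.gcd 7 2 = 1 by norm_num, pow_one] at h1
    exact hv₀1 h1
  · -- all lifts of involutions invert
    have hinv : ∀ a : G, orderOf (q a) = 2 → a * v₀ * a⁻¹ = v₀⁻¹ := by
      intro a ha
      have haN : a * a ∈ N := (QuotientGroup.eq_one_iff _).1 (by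
        show q (a * a) = 1
        rw [map_mul, sq_eq_one_of_orderOf ha])
      have ha2 : ∃ k, orderOf a = 2 ^ k := by
        have hd : 2 ∣ orderOf a := ha ▸ orderOf_map_dvd q a
        rcases h a (fun e => by rw [e, map_one, orderOf_one] at ha; omega) with h' | ⟨h', -⟩
        · exact h'
        · exact ⟨1, by rw [pow_one]; exact ((Nat.prime_dvd_prime_iff_eq Nat.prime_two h').1 hd).symm⟩
      obtain ⟨k, hk⟩ := ha2
      have haa : a * a = 1 := by
        have h1 : (a * a) ^ 2 ^ k = 1 := by
          rw [← pow_two, ← pow_mul, mul_comm, pow_mul, ← hk, pow_orderOf_eq_one, one_pow]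
        have h2 : (a * a) ^ r = 1 := hpow _ haN
        have h3 := pow_gcd_eq_one.2 ⟨h1, h2⟩
        rwa [show Nat.gcd (2 ^ k) r = 1 from Nat.Coprime.pow_left k
          ((Nat.coprime_primes Nat.prime_two hr).2 (Ne.symm hr2)), pow_one] at h3
      have hao : orderOf a = 2 := orderOf_eq_two haa fun e => by
        rw [e, map_one, orderOf_one] at ha; omega
      have hw : a * v₀ * a⁻¹ ∈ N := hNn.conj_mem v₀ hv₀ a
      have hc : Commute a (v₀ * (a * v₀ * a⁻¹)) := by
        refine mul_inv_eq_iff_eq_mul.1 ?_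
        calc a * (v₀ * (a * v₀ * a⁻¹)) * a⁻¹
            = (a * v₀ * a⁻¹) * ((a * a) * v₀ * (a * a)⁻¹) := by group
          _ = (a * v₀ * a⁻¹) * v₀ := by rw [haa, one_mul, inv_one, mul_one]
          _ = _ := congrArg Subtype.val (hcomm.is_comm.comm ⟨_, hw⟩ ⟨v₀, hv₀⟩)
      obtain ⟨j, hj⟩ := h.two_element hao hc
      have h2 := hpow _ (mul_mem hv₀ hw)
      have h3 := pow_gcd_eq_one.2 ⟨hj, h2⟩
      rw [show Nat.gcd (2 ^ j) r = 1 from Nat.Coprime.pow_left j
          ((Nat.coprime_primes Nat.prime_two hr).2 (Ne.symm hr2)), pow_one] at h3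
      exact eq_inv_of_mul_eq_one_right h3
    have hnc : ¬ IsCyclic (G ⧸ N) := fun hcy => by
      haveI := hcy
      have hs' : Group.IsSolvable (G ⧸ N) := Group.isSolvable_of_comm fun a b => by
        obtain ⟨g, hg⟩ := hcy.exists_generator
        obtain ⟨i, rfl⟩ := Subgroup.mem_zpowers_iff.1 (hg a)
        obtain ⟨j, rfl⟩ := Subgroup.mem_zpowers_iff.1 (hg b)
        exact ((Commute.refl g).zpow_zpow i j).eq
      have h1 := hQh.primeFactors_le_two hs'
      have h2 : ({2, 3, 7} : Finset ℕ) ⊆ (Nat.card (G ⧸ N)).primeFactors := by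
        intro t ht
        rw [h168]
        simp only [Finset.mem_insert, Finset.mem_singleton] at ht
        rcases ht with rfl | rfl | rfl <;>
          exact Nat.mem_primeFactors.2 ⟨by norm_num, by norm_num, by norm_num⟩
      have h3 := Finset.card_le_card h2
      simp at h3
      omega
    obtain ⟨E, hE⟩ := Cfsg.Agent.S0204.result hnc
    have hexp : ∀ e : E, (e : G ⧸ N) * e = 1 := fun e => by
      have : e * e = 1 := by rw [← pow_two, ← hE.exponent_two]; exact Monoid.pow_exponent_eq_one e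
      exact congrArg Subtype.val this
    haveI : Nontrivial E := Finite.one_lt_card_iff_nontrivial.1 (by rw [hE.card_four]; norm_num)
    obtain ⟨e₁, he₁⟩ := exists_ne (1 : E)
    obtain ⟨e₂, he₂, he₂'⟩ : ∃ e : E, e ≠ 1 ∧ e ≠ e₁ := by
      classical
      by_contra hall
      push Not at hall
      have h1 : Nat.card E ≤ Nat.card Bool :=
        Nat.card_le_card_of_injective (fun e => decide (e = 1)) fun a b hab => by
          simp only [decide_eq_decide] at hab
          by_cases ha : a = 1
          · rw [ha, hab.1 ha]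
          · rw [hall a ha, hall b (fun hb => ha (hab.2 hb))]
      rw [hE.card_four, show Nat.card Bool = 2 by simp] at h1
      omega
    have ho : ∀ e : E, e ≠ 1 → orderOf (e : G ⧸ N) = 2 := fun e he =>
      orderOf_eq_two (hexp e) (fun h' => he (Subtype.ext h'))
    obtain ⟨a, ha⟩ := hqs (e₁ : G ⧸ N)
    obtain ⟨b, hb⟩ := hqs (e₂ : G ⧸ N)
    have hab : e₁ * e₂ ≠ 1 := fun e => he₂' (by
      have h1 : e₁ * e₁ = 1 := Subtype.ext (hexp e₁)
      exact (mul_left_cancel (h1.trans e.symm)).symm)
    have h1 := hinv a (ha ▸ ho e₁ he₁)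
    have h2 := hinv b (hb ▸ ho e₂ he₂)
    have h3 := hinv (a * b) (by rw [map_mul, ha, hb]; exact ho _ hab)
    have h4 : a * b * v₀ * (a * b)⁻¹ = v₀ := by
      calc a * b * v₀ * (a * b)⁻¹ = a * (b * v₀ * b⁻¹) * a⁻¹ := by group
        _ = (a * v₀ * a⁻¹)⁻¹ := by rw [h2]; group
        _ = v₀ := by rw [h1, inv_inv]
    rw [h4] at h3
    have h5 : v₀ ^ 2 = 1 := by rw [pow_two]; exact mul_eq_one_iff_eq_inv.2 h3
    have h6 := pow_gcd_eq_one.2 ⟨h5, hpow v₀ hv₀⟩
    rw [show Nat.gcd 2 r = 1 from (Nat.coprime_primes Nat.prime_two hr).2 (Ne.symm hr2),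
      pow_one] at h6
    exact hv₀1 h6

/-- The main result, by induction on the order. -/
theorem card_and_isSimple : ∀ (n : ℕ) (G : Type u) [Group G] [Finite G], Nat.card G = n →
    OrderHyp G → 3 ≤ (Nat.card G).primeFactors.card → Nat.card G = 168 ∧ IsSimpleGroup G := by
  intro n
  induction n using Nat.strong_induction_on with
  | _ n ih =>
    intro G _ _ hn h h3
    have hns : ¬ Group.IsSolvable G := fun hs => by
      have := h.primeFactors_le_two hs
      omega
    haveI : Nontrivial G := by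
      by_contra hG
      rw [not_nontrivial_iff_subsingleton] at hG
      exact hns (Group.isSolvable_of_comm fun a b => Subsingleton.elim _ _)
    have hrec : ∀ (K : Type u) [Group K] [Finite K], Nat.card K < Nat.card G → OrderHyp K →
        ¬ Group.IsSolvable K → Nat.card K = 168 ∧ IsSimpleGroup K := by
      intro K _ _ hlt hK hKs
      refine ih _ (hn ▸ hlt) K rfl hK ?_
      by_contra hle
      exact hKs (isSolvable_of_card_primeFactors_le_two (by omega))
    obtain ⟨N, hN⟩ := Base.exists_isMinimalNormal (G := G)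
    haveI := hN.normal
    rcases eq_or_ne N ⊤ with rfl | hNtop
    · haveI : IsSimpleGroup G := ⟨fun K hK => hN.eq_bot_or_eq hK le_top⟩
      have hc : Ctx G := ⟨h, inferInstance, h3, fun K hK => by
        by_contra hKs
        rcases eq_or_ne K ⊤ with rfl | hKtop
        · have hnorm : (O2 (⊤ : Subgroup G)).Normal :=
            ⟨fun a ha g => conj_mem_O2 (Subgroup.mem_top g) ha⟩
          rcases hnorm.eq_bot_or_eq_top with e | e
          · exact hK e
          · haveI : Fact (Nat.Prime 2) := ⟨Nat.prime_two⟩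
            haveI := ((Base.isPGroup_map_pCore 2 (⊤ : Subgroup G)).of_equiv
              (MulEquiv.subgroupCongr e)).isNilpotent
            exact hKs inferInstance
        · have hlt : Nat.card K < Nat.card G := lt_of_le_of_ne (Subgroup.card_le_card_group K)
            fun e => hKtop (Subgroup.eq_top_of_card_eq K e)
          obtain ⟨-, hsimp⟩ := hrec K hlt (h.subgroup K) hKs
          haveI : (Cfsg.pCore 2 K).Normal := inferInstance
          rcases (inferInstance : (Cfsg.pCore 2 K).Normal).eq_bot_or_eq_top with e | e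
          · exact hK (by rw [O2, e, Subgroup.map_bot])
          · haveI : Fact (Nat.Prime 2) := ⟨Nat.prime_two⟩
            haveI := (Base.pCore_eq_top_iff.1 e).isNilpotent
            exact hKs inferInstance⟩
      obtain ⟨F, iF, jF, ⟨e⟩⟩ := isPSLTwo_of_ctx hc
      have hq := card_eq_seven e h h3
      have hcard := Small.card_PSL_two_prime hq (by decide)
      rw [← Nat.card_congr e.toEquiv] at hcard
      exact ⟨by omega, inferInstance⟩
    · exfalso
      have hlt : Nat.card N < Nat.card G := lt_of_le_of_ne (Subgroup.card_le_card_group N)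
        fun e => hNtop (Subgroup.eq_top_of_card_eq N e)
      by_cases hs : Group.IsSolvable N
      · have hQs : ¬ Group.IsSolvable (G ⧸ N) := fun hQ => hns (by
          haveI := hs
          haveI := hQ
          exact Group.isSolvable_of_ker_le_range N.subtype (QuotientGroup.mk' N)
            (by rw [QuotientGroup.ker_mk', Subgroup.range_subtype]))
        have hltQ : Nat.card (G ⧸ N) < Nat.card G := by
          rw [Subgroup.card_eq_card_quotient_mul_card_subgroup N]
          exact lt_mul_of_one_lt_right Nat.card_pos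
            ((Subgroup.one_lt_card_iff_ne_bot N).2 hN.ne_bot)
        obtain ⟨h168, hsimp⟩ := hrec (G ⧸ N) hltQ
          (h.of_surjective _ (QuotientGroup.mk'_surjective N)) hQs
        exact false_of_solvable_normal h hN hs h168
      · obtain ⟨h168, hsimp⟩ := hrec N hlt (h.subgroup N) hs
        exact false_of_normal_168 h hNtop h168

end CfsgLib.Recog.EPPOTwo
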