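import Cfsg.Agent.Lib.Recog.EPPOTwo.Embedded

/-!
The coset action on the normaliser of a Sylow 2-subgroup.
-/

set_option autoImplicit false
set_option linter.style.haveILetI false
set_option linter.unusedSectionVars false

namespace CfsgLib.Recog.EPPOTwo

universe u

variable {G : Type u} [Group G] [Finite G]

/-- The data: a maximal 2-subgroup `S`, its normaliser `H`, meeting conjugates of `S` trivially. -/
structure TIData (G : Type u) [Group G] (S H : Subgroup G) : Prop where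
  full : IsFullTwo S
  ne : S ≠ ⊥
  eq : Subgroup.normalizer (S : Set G) = H
  ti : ∀ g ∉ H, ∀ a ∈ S, g * a * g⁻¹ ∈ S → a = 1
  ntop : H ≠ ⊤

theorem exists_tiData (hc : Ctx G) (hsf : ¬ SmallFour G) :
    ∃ S H : Subgroup G, TIData G S H := by
  haveI := hc.simple
  have hnc : ¬ IsCyclic G := fun h => by
    have hs : Group.IsSolvable G := Group.isSolvable_of_comm fun a b => by
      obtain ⟨g, hg⟩ := h.exists_generator
      obtain ⟨i, rfl⟩ := Subgroup.mem_zpowers_iff.1 (hg a)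
      obtain ⟨j, rfl⟩ := Subgroup.mem_zpowers_iff.1 (hg b)
      exact ((Commute.refl g).zpow_zpow i j).eq
    have := hc.hyp.primeFactors_le_two hs
    have := hc.three
    omega
  obtain ⟨E, hE⟩ := Cfsg.Agent.S0204.result hnc
  obtain ⟨S, hES, hS⟩ := exists_isFullTwo_ge
    (IsPGroup.of_card (p := 2) (n := 2) (G := E) (by rw [hE.card_four]; norm_num))
  have hne : S ≠ ⊥ := fun e => by
    have h1 : E = ⊥ := le_bot_iff.1 (e ▸ hES)
    have h2 := hE.card_four
    rw [h1, Subgroup.card_bot] at h2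
    omega
  refine ⟨S, Subgroup.normalizer (S : Set G), hS, hne, rfl, fun g hg a ha hga => ?_,
    hc.ne_top_of_O2 fun e => hne (le_bot_iff.1
      (e ▸ Base.le_map_pCore Subgroup.le_normalizer le_rfl hS.1))⟩
  by_contra ha1
  have heq := eq_of_inf_ne_bot hc hsf hS (hS.map g) fun e => ha1 (by
    have : g * a * g⁻¹ ∈ S ⊓ S.map (MulAut.conj g).toMonoidHom :=
      ⟨hga, mem_map_conj.2 (by simpa [mul_assoc] using ha)⟩
    rw [e, Subgroup.mem_bot] at this
    simpa using this)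
  refine hg (Subgroup.mem_normalizer_iff.2 fun b => ⟨fun hb => ?_, fun hb => ?_⟩)
  · rw [heq, mem_map_conj]
    simpa [mul_assoc] using hb
  · rw [heq, mem_map_conj] at hb
    simpa [mul_assoc] using hb

namespace TIData

variable {S H : Subgroup G} (T : TIData G S H)
include T

theorem le : S ≤ H := T.eq ▸ Subgroup.le_normalizer

theorem conj_mem {h a : G} (hh : h ∈ H) (ha : a ∈ S) : h * a * h⁻¹ ∈ S :=
  (Subgroup.mem_normalizer_iff.1 (T.eq.symm ▸ hh) a).1 ha

theorem mem_of_isTwo {a : G} (ha : a ∈ H) (h2 : IsTwo a) : a ∈ S := by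
  have hP : IsPGroup 2 (Subgroup.zpowers a) := by
    obtain ⟨k, hk⟩ := h2
    rintro ⟨b, hb⟩
    obtain ⟨i, rfl⟩ := Subgroup.mem_zpowers_iff.1 hb
    refine ⟨k, Subtype.ext ?_⟩
    show (a ^ i) ^ 2 ^ k = 1
    rw [← zpow_natCast, ← zpow_mul, mul_comm, zpow_mul, zpow_natCast, hk, one_zpow]
  have h := T.full.2 _ (hP.to_sup_of_normal_right' T.full.1
    (Subgroup.zpowers_le.2 (T.eq.symm ▸ ha))) le_sup_right
  exact h ▸ (le_sup_left : _ ≤ Subgroup.zpowers a ⊔ S) (Subgroup.mem_zpowers a)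

theorem mem_of_invol {a : G} (ha : a ∈ H) (h2 : orderOf a = 2) : a ∈ S :=
  T.mem_of_isTwo ha (isTwo_of_sq (sq_eq_one_of_orderOf h2))

theorem se : Cfsg.IsStronglyEmbedded H := by
  refine ⟨T.ntop, ?_, fun g hg => ?_⟩
  · rw [Involutions.even_card_iff]
    obtain ⟨t, ht, hto⟩ := exists_involution T.full.1 T.ne
    exact ⟨t, T.le ht, hto⟩
  · rw [Involutions.odd_card_iff]
    rintro t ⟨htH, htg⟩ hto
    have h1 : g⁻¹ * t * g ∈ S := by
      refine T.mem_of_invol (mem_map_conj.1 htg) ?_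
      have := Involutions.conj_invol g⁻¹ hto
      rwa [inv_inv] at this
    have h2 := T.ti g⁻¹ (fun h => hg (by simpa using inv_mem h)) t (T.mem_of_invol htH hto)
      (by rwa [inv_inv])
    rw [h2, orderOf_one] at hto
    omega

theorem exists_central : ∃ z ∈ S, orderOf z = 2 ∧ ∀ s ∈ S, s * z = z * s := by
  haveI : Fact (Nat.Prime 2) := ⟨Nat.prime_two⟩
  haveI : Nontrivial S := (Subgroup.nontrivial_iff_ne_bot _).2 T.ne
  obtain ⟨z, hz, hzo⟩ := exists_involution (T.full.1.to_subgroup _)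
    ((Subgroup.nontrivial_iff_ne_bot _).1 T.full.1.center_nontrivial)
  exact ⟨z, z.2, by rwa [Subgroup.orderOf_coe],
    fun s hs => congrArg Subtype.val (Subgroup.mem_center_iff.1 hz ⟨s, hs⟩)⟩

theorem commute_invol {t s : G} (ht : t ∈ H) (hto : orderOf t = 2) (hs : s ∈ S) :
    s * t = t * s := by
  obtain ⟨z, hzS, hzo, hzc⟩ := T.exists_central
  obtain ⟨g, hg⟩ := isConj_iff.1 (Involutions.SE.isConj T.se hzo hto)
  have hgH : g ∈ H := Involutions.SE.mem_of_conj T.se hzo (T.le hzS) (hg.symm ▸ ht)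
  have h1 := hzc _ (T.conj_mem (inv_mem hgH) hs)
  rw [inv_inv] at h1
  calc s * t = g * ((g⁻¹ * s * g) * z) * g⁻¹ := by rw [← hg]; group
    _ = g * (z * (g⁻¹ * s * g)) * g⁻¹ := by rw [h1]
    _ = t * s := by rw [← hg]; group

theorem centralizer_invol_le (hc : Ctx G) {t : G} (ht : t ∈ H) (hto : orderOf t = 2) {c : G}
    (h : Commute t c) : c ∈ S :=
  T.mem_of_isTwo (Involutions.SE.centralizer_le T.se hto ht
    (Subgroup.mem_centralizer_singleton_iff.2 h.eq.symm)) (hc.hyp.two_element hto h)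

/-- The order of the normaliser. -/
theorem exists_prime (hc : Ctx G) :
    ∃ p : ℕ, p.Prime ∧ p ≠ 2 ∧ Nat.card H = Nat.card S * p ∧
      Nat.card (H ⧸ S.subgroupOf H) = p ∧
      Nat.card {t : G // orderOf t = 2 ∧ t ∈ H} = p ∧
      ∀ a ∈ H, ∀ b ∈ H, a * b * a⁻¹ * b⁻¹ ∈ S := by
  classical
  haveI : Fact (Nat.Prime 2) := ⟨Nat.prime_two⟩
  haveI hnorm : (S.subgroupOf H).Normal :=
    Subgroup.normal_subgroupOf_of_le_normalizer T.eq.ge
  obtain ⟨z, hzS, hzo, hzc⟩ := T.exists_central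
  have hO2 : O2 H ≠ ⊥ := fun e => T.ne (le_bot_iff.1
    (e ▸ Base.le_map_pCore T.le T.eq.ge T.full.1))
  have hsol := hc.solv H hO2
  set k := Nat.card (H ⧸ S.subgroupOf H) with hk
  have hcard : Nat.card H = Nat.card S * k := by
    rw [Subgroup.card_eq_card_quotient_mul_card_subgroup (S.subgroupOf H), ← hk, mul_comm,
      Nat.card_congr (Subgroup.subgroupOfEquivOfLe T.le).toEquiv]
  -- involutions of `H` and cosets
  have hinj : ∀ a b : H, (a : G) * z * (a : G)⁻¹ = (b : G) * z * (b : G)⁻¹ →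
      (a : G)⁻¹ * b ∈ S := fun a b hab => T.centralizer_invol_le hc (T.le hzS) hzo (by
    show z * ((a : G)⁻¹ * b) = (a : G)⁻¹ * b * z
    calc z * ((a : G)⁻¹ * b) = (a : G)⁻¹ * ((a : G) * z * (a : G)⁻¹) * b := by group
      _ = (a : G)⁻¹ * ((b : G) * z * (b : G)⁻¹) * b := by rw [hab]
      _ = _ := by group)
  let f : H → {t : G // orderOf t = 2 ∧ t ∈ H} := fun a =>
    ⟨(a : G) * z * (a : G)⁻¹, Involutions.conj_invol _ hzo,
      mul_mem (mul_mem a.2 (T.le hzS)) (inv_mem a.2)⟩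
  have hf : ∀ a b : H, (QuotientGroup.mk a : H ⧸ S.subgroupOf H) = QuotientGroup.mk b →
      f a = f b := fun a b hab => by
    rw [QuotientGroup.eq, Subgroup.mem_subgroupOf] at hab
    refine Subtype.ext ?_
    have h1 := hzc _ hab
    show (a : G) * z * (a : G)⁻¹ = (b : G) * z * (b : G)⁻¹
    have h2 : (a⁻¹ * b : H).1 = (a : G)⁻¹ * b := rfl
    rw [h2] at h1
    calc (a : G) * z * (a : G)⁻¹ = (a : G) * (z * ((a : G)⁻¹ * b)) * (b : G)⁻¹ := by group
      _ = (a : G) * ((a : G)⁻¹ * b * z) * (b : G)⁻¹ := by rw [h1]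
      _ = _ := by group
  let F : H ⧸ S.subgroupOf H → {t : G // orderOf t = 2 ∧ t ∈ H} :=
    fun c => f c.out
  have hFinj : Function.Injective F := by
    intro c c' hcc
    rw [← QuotientGroup.out_eq' c, ← QuotientGroup.out_eq' c', QuotientGroup.eq,
      Subgroup.mem_subgroupOf]
    exact hinj _ _ (congrArg Subtype.val hcc)
  have hFsurj : Function.Surjective F := by
    rintro ⟨t, hto, htH⟩
    obtain ⟨g, hg⟩ := isConj_iff.1 (Involutions.SE.isConj T.se hzo hto)
    have hgH : g ∈ H := Involutions.SE.mem_of_conj T.se hzo (T.le hzS) (hg.symm ▸ htH)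
    refine ⟨QuotientGroup.mk ⟨g, hgH⟩, ?_⟩
    show f _ = _
    rw [hf _ ⟨g, hgH⟩ (QuotientGroup.out_eq' _)]
    exact Subtype.ext hg
  have hZ : Nat.card {t : G // orderOf t = 2 ∧ t ∈ H} = k :=
    (Nat.card_congr (Equiv.ofBijective F ⟨hFinj, hFsurj⟩)).symm
  -- more than one involution
  have hk2 : 2 ≤ k := by
    haveI := hc.simple
    have hnc : ¬ IsCyclic G := fun h => by
      have hs : Group.IsSolvable G := Group.isSolvable_of_comm fun a b => by
        obtain ⟨g, hg⟩ := h.exists_generator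
        obtain ⟨i, rfl⟩ := Subgroup.mem_zpowers_iff.1 (hg a)
        obtain ⟨j, rfl⟩ := Subgroup.mem_zpowers_iff.1 (hg b)
        exact ((Commute.refl g).zpow_zpow i j).eq
      have := hc.hyp.primeFactors_le_two hs
      have := hc.three
      omega
    obtain ⟨E, hE⟩ := Cfsg.Agent.S0204.result hnc
    have hexp : ∀ e : E, e * e = 1 := fun e => by
      rw [← pow_two, ← hE.exponent_two]; exact Monoid.pow_exponent_eq_one e
    haveI : Nontrivial E := Finite.one_lt_card_iff_nontrivial.1 (by rw [hE.card_four]; norm_num)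
    obtain ⟨e₁, he₁⟩ := exists_ne (1 : E)
    obtain ⟨e₂, he₂, he₂'⟩ : ∃ e : E, e ≠ 1 ∧ e ≠ e₁ := by
      by_contra hall
      push Not at hall
      have h1 : Nat.card E ≤ Nat.card Bool :=
        Nat.card_le_card_of_injective (fun e => decide (e = 1)) fun a b hab => by
          simp only [decide_eq_decide] at hab
          by_cases ha : a = 1
          · rw [ha, hab.1 ha]
          · rw [hall a ha, hall b (fun hb => ha (hab.2 hb))]
      rw [hE.card_four, show Nat.card Bool = 2 by simp] at h1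
      omega
    have ho : ∀ e : E, e ≠ 1 → orderOf (e : G) = 2 := fun e he =>
      orderOf_eq_two (congrArg Subtype.val (hexp e)) (fun h => he (Subtype.ext h))
    obtain ⟨g, hg⟩ := isConj_iff.1 (Involutions.SE.isConj T.se (ho e₁ he₁) hzo)
    have hcm : Commute (e₁ : G) e₂ := by
      refine congrArg Subtype.val (?_ : e₁ * e₂ = e₂ * e₁)
      calc e₁ * e₂ = (e₁ * e₂)⁻¹ := eq_inv_of_mul_eq_one_left (hexp _)
        _ = e₂⁻¹ * e₁⁻¹ := mul_inv_rev _ _
        _ = e₂ * e₁ := by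
          rw [inv_eq_of_mul_eq_one_right (hexp e₂), inv_eq_of_mul_eq_one_right (hexp e₁)]
    have h3 : g * (e₂ : G) * g⁻¹ ∈ S := by
      refine T.centralizer_invol_le hc (T.le hzS) hzo ?_
      rw [← hg]
      exact hcm.map (MulAut.conj g).toMonoidHom
    haveI : Nontrivial {t : G // orderOf t = 2 ∧ t ∈ H} :=
      ⟨⟨⟨z, hzo, T.le hzS⟩, ⟨_, Involutions.conj_invol g (ho e₂ he₂), T.le h3⟩, fun e => he₂'
        (Subtype.ext (mul_left_cancel (mul_right_cancel
          ((congrArg Subtype.val e).symm.trans hg.symm))))⟩⟩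
    rw [← hZ]
    exact Finite.one_lt_card
  -- the primes of `k`
  have hkodd : ¬ 2 ∣ k := fun h2 => by
    obtain ⟨c, hco⟩ := exists_prime_orderOf_dvd_card' (G := H ⧸ S.subgroupOf H) 2 h2
    obtain ⟨a, rfl⟩ := QuotientGroup.mk'_surjective _ c
    have haa : (a : G) * a ∈ S := by
      have h1 : QuotientGroup.mk' (S.subgroupOf H) (a * a) = 1 := by
        rw [map_mul, sq_eq_one_of_orderOf hco]
      exact Subgroup.mem_subgroupOf.1 ((QuotientGroup.eq_one_iff _).1 h1)
    obtain ⟨j, hj⟩ := isTwo_of_mem T.full.1 haa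
    have haS : (a : G) ∈ S := T.mem_of_isTwo a.2
      ⟨j + 1, by rw [pow_succ', pow_mul, pow_two]; exact hj⟩
    rw [show QuotientGroup.mk' (S.subgroupOf H) a = 1 from (QuotientGroup.eq_one_iff _).2
      (Subgroup.mem_subgroupOf.2 haS), orderOf_one] at hco
    omega
  obtain ⟨p, hp, hpk⟩ := Nat.exists_prime_and_dvd (show k ≠ 1 by omega)
  have hp2 : p ≠ 2 := fun e => hkodd (e ▸ hpk)
  haveI : Fact p.Prime := ⟨hp⟩
  have hk0 : k ≠ 0 := by omega
  have h2S : 2 ∣ Nat.card H := by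
    rw [← hzo]
    exact Subgroup.orderOf_dvd_natCard H (T.le hzS)
  have honly : ∀ q, q.Prime → q ∣ k → q = p := fun q hq hqk => by
    by_contra hqp
    have hH0 : Nat.card H ≠ 0 := Nat.card_pos.ne'
    have hle := (hc.hyp.subgroup H).primeFactors_le_two hsol
    have hsub : ({2, p, q} : Finset ℕ) ⊆ (Nat.card H).primeFactors := by
      intro r hr
      simp only [Finset.mem_insert, Finset.mem_singleton] at hr
      rcases hr with rfl | rfl | rfl
      · exact Nat.mem_primeFactors.2 ⟨Nat.prime_two, h2S, hH0⟩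
      · exact Nat.mem_primeFactors.2 ⟨hp, hcard ▸ hpk.mul_left _, hH0⟩
      · exact Nat.mem_primeFactors.2 ⟨hq, hcard ▸ hqk.mul_left _, hH0⟩
    have hq2 : q ≠ 2 := fun e => hkodd (e ▸ hqk)
    have h3 := Finset.card_le_card hsub
    rw [Finset.card_insert_of_notMem (by simp [Ne.symm hp2, Ne.symm hq2]),
      Finset.card_pair (Ne.symm hqp)] at h3
    omega
  obtain ⟨b, hb⟩ : ∃ b, k = p ^ b :=
    ⟨_, Nat.eq_prime_pow_of_unique_prime_dvd hk0 fun {d} hd hdk => honly d hd hdk⟩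
  have hb1 : b ≤ 1 := by
    obtain ⟨P, hP⟩ := Sylow.exists_subgroup_card_pow_prime (G := H) p (n := b)
      (by rw [hcard, ← hb]; exact dvd_mul_left _ _)
    have hP' : Nat.card (P.map H.subtype) = p ^ b := by
      rw [Subgroup.card_map_of_injective H.subtype_injective, hP]
    have hfpf : Base.IsFPF (P.map H.subtype) S := hc.hyp.isFPF hp hp2 (IsPGroup.of_card hP')
      T.full.1 ((Subgroup.map_subtype_le P).trans T.eq.ge)
    have hcyc : IsCyclic (P.map H.subtype) := by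
      rcases hfpf.isCyclic_or_quaternion T.ne ⊤ ((IsPGroup.of_card hP').to_subgroup ⊤) with
        h | ⟨e, -⟩
      · exact Subgroup.topEquiv.isCyclic.1 h
      · exact absurd e hp2
    obtain ⟨g, hg⟩ := hcyc.exists_ofOrder_eq_natCard
    rw [hP'] at hg
    rcases eq_or_ne b 0 with hb0 | hb0
    · omega
    · have hg1 : (g : G) ≠ 1 := fun e => by
        rw [show g = 1 from Subtype.ext e, orderOf_one] at hg
        have := Nat.one_lt_pow hb0 hp.one_lt
        omega
      have h1 := hc.hyp.orderOf_eq hg1 hp hp2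
        (by rw [Subgroup.orderOf_coe, hg]; exact dvd_pow_self p hb0)
      rw [Subgroup.orderOf_coe, hg] at h1
      exact (Nat.pow_eq_self_iff hp.one_lt).1 h1 ▸ le_rfl
  have hkp : k = p := by
    rcases (show b = 0 ∨ b = 1 by omega) with rfl | rfl
    · rw [pow_zero] at hb; omega
    · rwa [pow_one] at hb
  refine ⟨p, hp, hp2, hkp ▸ hcard, hkp, hkp ▸ hZ, fun a ha c hc' => ?_⟩
  haveI : IsCyclic (H ⧸ S.subgroupOf H) := isCyclic_of_prime_card (p := p) (hk ▸ hkp)
  have h1 : QuotientGroup.mk' (S.subgroupOf H)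
      ((⟨a, ha⟩ : H) * ⟨c, hc'⟩ * (⟨a, ha⟩ : H)⁻¹ * (⟨c, hc'⟩ : H)⁻¹) = 1 := by
    obtain ⟨g, hg⟩ := IsCyclic.exists_generator (α := H ⧸ S.subgroupOf H)
    obtain ⟨i, hi⟩ := Subgroup.mem_zpowers_iff.1 (hg (QuotientGroup.mk' (S.subgroupOf H) ⟨a, ha⟩))
    obtain ⟨j, hj⟩ := Subgroup.mem_zpowers_iff.1 (hg (QuotientGroup.mk' (S.subgroupOf H) ⟨c, hc'⟩))
    rw [map_mul, map_mul, map_mul, map_inv, map_inv, ← hi, ← hj]
    group
  exact Subgroup.mem_subgroupOf.1 ((QuotientGroup.eq_one_iff _).1 h1)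

/-- A trivial intersection inside the coset action. -/
theorem eq_one_of_fix {v a : G} (hv : v ∉ H) (ha : a ∈ S) (hfix : v⁻¹ * a * v ∈ H) : a = 1 := by
  have h1 : v⁻¹ * a * v ∈ S := by
    refine T.mem_of_isTwo hfix ?_
    have := (isTwo_of_mem T.full.1 ha).conj v⁻¹
    rwa [inv_inv] at this
  exact T.ti v⁻¹ (fun h => hv (by simpa using inv_mem h)) a ha (by rwa [inv_inv])

/-- Every other coset is exchanged with the base by an involution inverting the two-point
stabiliser, of order `p`. -/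
theorem exists_swap (hc : Ctx G) {p : ℕ} (hp : p.Prime) (hp2 : p ≠ 2)
    (hH : Nat.card H = Nat.card S * p) (hQ : Nat.card (H ⧸ S.subgroupOf H) = p)
    (hZ : Nat.card {t : G // orderOf t = 2 ∧ t ∈ H} = p) (c : G ⧸ H)
    (hcne : c ≠ QuotientGroup.mk 1) :
    ∃ v : G, orderOf v = 2 ∧ (QuotientGroup.mk v : G ⧸ H) = c ∧
      v • c = QuotientGroup.mk 1 ∧
      Nat.card ↥(H ⊓ MulAction.stabilizer G c) = p ∧
      ∀ d ∈ H, d • c = c → v * d * v⁻¹ = d⁻¹ := by
  classical
  obtain ⟨z, hzS, hzo, hzc⟩ := T.exists_central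
  set I := {t : G // orderOf t = 2}
  set Z := {t : G // orderOf t = 2 ∧ t ∈ H}
  -- all involutions
  let g₀ : (G ⧸ H) × Z → I := fun q =>
    ⟨q.1.out * (q.2 : G) * q.1.out⁻¹, Involutions.conj_invol _ q.2.2.1⟩
  have hg₀ : Function.Bijective g₀ := by
    constructor
    · rintro ⟨a, ⟨t, hto, htH⟩⟩ ⟨a', ⟨t', hto', htH'⟩⟩ h
      have h1 : a.out * t * a.out⁻¹ = a'.out * t' * a'.out⁻¹ := congrArg Subtype.val h
      have h2 : a'.out⁻¹ * a.out ∈ H := Involutions.SE.mem_of_conj T.se hto htH (by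
        rw [show a'.out⁻¹ * a.out * t * (a'.out⁻¹ * a.out)⁻¹ =
          a'.out⁻¹ * (a.out * t * a.out⁻¹) * a'.out by group, h1]
        convert htH' using 1; group)
      have ha : a' = a := by
        rw [← QuotientGroup.out_eq' a, ← QuotientGroup.out_eq' a']
        exact QuotientGroup.eq.2 h2
      subst ha
      exact Prod.ext rfl (Subtype.ext (mul_left_cancel (mul_right_cancel h1)))
    · rintro ⟨t, hto⟩
      obtain ⟨g, hg⟩ := isConj_iff.1 (Involutions.SE.isConj T.se hzo hto)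
      set a : G ⧸ H := QuotientGroup.mk g with ha
      have h1 : a.out⁻¹ * g ∈ H := QuotientGroup.eq.1 (QuotientGroup.out_eq' a)
      refine ⟨⟨a, ⟨(a.out⁻¹ * g) * z * (a.out⁻¹ * g)⁻¹, Involutions.conj_invol _ hzo,
        mul_mem (mul_mem h1 (T.le hzS)) (inv_mem h1)⟩⟩, Subtype.ext ?_⟩
      show a.out * ((a.out⁻¹ * g) * z * (a.out⁻¹ * g)⁻¹) * a.out⁻¹ = t
      rw [← hg]; group
  have hI : Nat.card I = Nat.card (G ⧸ H) * p := by
    rw [← Nat.card_congr (Equiv.ofBijective g₀ hg₀), Nat.card_prod, hZ]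
  let J := {t : I // (t : G) ∉ H}
  let Ω' := {c : G ⧸ H // c ≠ QuotientGroup.mk 1}
  have hJ : p + Nat.card J = Nat.card I := by
    rw [← Nat.card_congr (Equiv.sumCompl (fun t : I => (t : G) ∈ H)), Nat.card_sum, ← hZ]
    congr 1
    exact Nat.card_congr
      ⟨fun t => ⟨⟨t, t.2.1⟩, t.2.2⟩, fun t => ⟨t.1, t.1.2, t.2⟩, fun _ => rfl, fun _ => rfl⟩
  have hΩ : 1 + Nat.card Ω' = Nat.card (G ⧸ H) := by
    rw [← Nat.card_congr (Equiv.sumCompl (fun c : G ⧸ H => c = QuotientGroup.mk 1)),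
      Nat.card_sum]
    congr 1
    exact Nat.card_unique.symm
  let rep : G ⧸ H → G := fun c =>
    if h : ∃ v : J, (QuotientGroup.mk (v.1 : G) : G ⧸ H) = c then h.choose.1.1 else 1
  have hrep : ∀ v : J, (QuotientGroup.mk (rep (QuotientGroup.mk (v.1 : G))) : G ⧸ H) =
      QuotientGroup.mk (v.1 : G) ∧
      orderOf (rep (QuotientGroup.mk (v.1 : G))) = 2 := by
    intro v
    have hex : ∃ w : J, (QuotientGroup.mk (w.1 : G) : G ⧸ H) = QuotientGroup.mk (v.1 : G) :=
      ⟨v, rfl⟩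
    simp only [rep, dif_pos hex]
    exact ⟨hex.choose_spec, hex.choose.1.2⟩
  have hinvv : ∀ {v : G}, orderOf v = 2 → v⁻¹ = v := fun h =>
    inv_eq_of_mul_eq_one_right (sq_eq_one_of_orderOf h)
  have hmemH : ∀ v : J, rep (QuotientGroup.mk (v.1 : G)) * (v.1 : G) ∈ H := fun v => by
    have h1 := QuotientGroup.eq.1 (hrep v).1
    rwa [hinvv (hrep v).2] at h1
  have hnot : ∀ v : J, (QuotientGroup.mk (v.1 : G) : G ⧸ H) ≠ QuotientGroup.mk 1 := fun v e =>
    v.2 (by simpa using QuotientGroup.eq.1 e)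
  let f : J → Ω' × (H ⧸ S.subgroupOf H) := fun v =>
    (⟨QuotientGroup.mk (v.1 : G), hnot v⟩,
      QuotientGroup.mk (⟨rep (QuotientGroup.mk (v.1 : G)) * (v.1 : G), hmemH v⟩ : H))
  have hf : Function.Injective f := by
    rintro v v' h
    simp only [f, Prod.mk.injEq] at h
    obtain ⟨h1, h2⟩ := h
    replace h1 := congrArg Subtype.val h1
    dsimp only at h1
    rw [QuotientGroup.eq, Subgroup.mem_subgroupOf] at h2
    have h3 : (rep (QuotientGroup.mk (v.1 : G)) * (v.1 : G))⁻¹ *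
        (rep (QuotientGroup.mk (v'.1 : G)) * (v'.1 : G)) = (v.1 : G) * v'.1 := by
      rw [← h1, mul_inv_rev, hinvv v.1.2]; group
    have h4 : (v.1 : G) * v'.1 ∈ S := h3 ▸ h2
    have h5 : (v.1 : G) * v'.1 = 1 := T.eq_one_of_fix v.2 h4 (T.le (by
      have := inv_mem h4
      rw [mul_inv_rev, hinvv v.1.2, hinvv v'.1.2] at this
      rw [hinvv v.1.2, show (v.1 : G) * (v.1 * v'.1) * v.1 = (v.1 * v.1) * (v'.1 * v.1) by group,
        sq_eq_one_of_orderOf v.1.2, one_mul]
      exact this))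
    refine Subtype.ext (Subtype.ext ?_)
    rw [← inv_eq_of_mul_eq_one_right h5, hinvv v.1.2]
  have hbij : Function.Bijective f := by
    refine (Nat.bijective_iff_injective_and_card f).2 ⟨hf, ?_⟩
    rw [Nat.card_prod, hQ]
    rw [hI, ← hΩ, add_mul, one_mul] at hJ
    omega
  haveI : Fact p.Prime := ⟨hp⟩
  obtain ⟨q₀, q₁, hq⟩ : ∃ a b : H ⧸ S.subgroupOf H, a ≠ b := by
    haveI : Nontrivial (H ⧸ S.subgroupOf H) :=
      Finite.one_lt_card_iff_nontrivial.1 (hQ ▸ hp.one_lt)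
    exact exists_pair_ne _
  obtain ⟨v, hv⟩ := hbij.2 (⟨c, hcne⟩, q₀)
  obtain ⟨w, hw⟩ := hbij.2 (⟨c, hcne⟩, q₁)
  have hvw : v ≠ w := fun e => hq (by
    have := congrArg Prod.snd ((e ▸ hv).symm.trans hw)
    exact this)
  have hvc : (QuotientGroup.mk (v.1 : G) : G ⧸ H) = c :=
    congrArg (fun q : Ω' × (H ⧸ S.subgroupOf H) => (q.1 : G ⧸ H)) hv
  have hwc : (QuotientGroup.mk (w.1 : G) : G ⧸ H) = c :=
    congrArg (fun q : Ω' × (H ⧸ S.subgroupOf H) => (q.1 : G ⧸ H)) hw
  set a : G := v.1.1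
  set b : G := w.1.1
  have hao : orderOf a = 2 := v.1.2
  have hbo : orderOf b = 2 := w.1.2
  have hfixc : ∀ {d : G}, d • c = c ↔ a⁻¹ * d * a ∈ H := by
    intro d
    rw [← hvc, MulAction.Quotient.smul_mk, smul_eq_mul, eq_comm, QuotientGroup.eq, ← mul_assoc]
  have hab : a * b ∈ H := by
    have := QuotientGroup.eq.1 (hvc.trans hwc.symm)
    rwa [hinvv hao] at this
  have habc : (a * b) • c = c := by
    rw [hfixc, hinvv hao, show a * (a * b) * a = (a * a) * (b * a) by group,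
      sq_eq_one_of_orderOf hao, one_mul]
    have := inv_mem hab
    rwa [mul_inv_rev, hinvv hao, hinvv hbo] at this
  set D := H ⊓ MulAction.stabilizer G c with hD
  have hDS : ∀ d ∈ D, d ∈ S → d = 1 := fun d hd hdS =>
    T.eq_one_of_fix v.2 hdS (hfixc.1 hd.2)
  have habD : a * b ∈ D := ⟨hab, habc⟩
  have hab1 : a * b ≠ 1 := fun e => hvw (Subtype.ext (Subtype.ext (by
    show a = b
    rw [← inv_eq_of_mul_eq_one_right e, hinvv hao])))
  have hDle : Nat.card D ≤ p := by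
    rw [← hQ]
    refine Nat.card_le_card_of_injective
      (fun d : D => (QuotientGroup.mk (⟨d, d.2.1⟩ : H) : H ⧸ S.subgroupOf H)) ?_
    intro d d' hdd
    rw [QuotientGroup.eq, Subgroup.mem_subgroupOf] at hdd
    exact Subtype.ext (inv_mul_eq_one.1 (hDS _ (mul_mem (inv_mem d.2) d'.2) hdd))
  have hDp : Nat.card D = p := by
    refine le_antisymm hDle ?_
    have hne : Nat.card D ≠ 1 := fun e => hab1 (by
      rw [Subgroup.card_eq_one] at e
      rw [e] at habD
      exact Subgroup.mem_bot.1 habD)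
    obtain ⟨q, hqp, hqd⟩ := Nat.exists_prime_and_dvd hne
    have hqH : q ∣ Nat.card S * p := hH ▸ hqd.trans (Subgroup.card_dvd_of_le inf_le_left)
    rcases hqp.dvd_mul.1 hqH with h | h
    · exfalso
      haveI : Fact (Nat.Prime 2) := ⟨Nat.prime_two⟩
      haveI : Fact q.Prime := ⟨hqp⟩
      obtain ⟨n, hn⟩ := T.full.1.exists_card_eq
      rw [hn] at h
      obtain rfl := (Nat.prime_dvd_prime_iff_eq hqp Nat.prime_two).1 (hqp.dvd_of_dvd_pow h)
      obtain ⟨d, hd⟩ := exists_prime_orderOf_dvd_card' (G := D) 2 hqd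
      have h1 := hDS d d.2 (T.mem_of_invol d.2.1 (by rwa [Subgroup.orderOf_coe]))
      rw [show d = 1 from Subtype.ext h1, orderOf_one] at hd
      omega
    · rw [← (Nat.prime_dvd_prime_iff_eq hqp hp).1 h]
      exact Nat.le_of_dvd Nat.card_pos hqd
  refine ⟨a, hao, hvc, ?_, hDp, fun d hdH hdc => ?_⟩
  · rw [← hvc, MulAction.Quotient.smul_mk, smul_eq_mul, sq_eq_one_of_orderOf hao]
  · have hgen : Subgroup.zpowers (a * b) = D := by
      refine Subgroup.eq_of_le_of_card_ge (Subgroup.zpowers_le.2 habD) ?_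
      rw [hDp, Nat.card_zpowers]
      have h1 : orderOf (a * b) ∣ p := hDp ▸ Subgroup.orderOf_dvd_natCard D habD
      rcases (Nat.dvd_prime hp).1 h1 with e | e
      · exact absurd (orderOf_eq_one_iff.1 e) hab1
      · exact e.ge
    have hdD : d ∈ D := ⟨hdH, hdc⟩
    rw [← hgen] at hdD
    obtain ⟨i, rfl⟩ := Subgroup.mem_zpowers_iff.1 hdD
    have h2 : a * (a * b) * a⁻¹ = (a * b)⁻¹ := by
      rw [mul_inv_rev, hinvv hao, hinvv hbo, ← mul_assoc a a b, sq_eq_one_of_orderOf hao, one_mul]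
    rw [← conj_zpow, h2, inv_zpow]

/-- The coset action is a Zassenhaus action. -/
theorem isZassenhausGroup (hc : Ctx G) : Cfsg.IsZassenhausGroup G (G ⧸ H) := by
  classical
  haveI := hc.simple
  obtain ⟨p, hp, hp2, hH, hQ, hZ, hcomm⟩ := T.exists_prime hc
  haveI : Fact p.Prime := ⟨hp⟩
  set o : G ⧸ H := QuotientGroup.mk 1 with ho
  have hfixo : ∀ {g : G}, g • o = o ↔ g ∈ H := by
    intro g
    rw [ho, MulAction.Quotient.smul_mk, smul_eq_mul, mul_one, eq_comm, QuotientGroup.eq]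
    simp
  have hswap := T.exists_swap hc hp hp2 hH hQ hZ
  -- two points besides the base
  have hthree : ∀ d : G, ∀ b c : G ⧸ H, b ≠ o → c ≠ o → b ≠ c → d • o = o → d • b = b →
      d • c = c → d = 1 := by
    intro d b c hb hc' hbc hdo hdb hdc
    by_contra hd1
    have hdH : d ∈ H := hfixo.1 hdo
    obtain ⟨u, huo, hu, hub, hDb, huinv⟩ := hswap b hb
    obtain ⟨v, hvo, hv, hvc, hDc, hvinv⟩ := hswap c hc'
    have huo' : u • o = b := by rw [ho, MulAction.Quotient.smul_mk, smul_eq_mul, mul_one, hu]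
    have hvo' : v • o = c := by rw [ho, MulAction.Quotient.smul_mk, smul_eq_mul, mul_one, hv]
    have hu1 := huinv d hdH hdb
    have hv1 := hvinv d hdH hdc
    set c' := u • c with hc'def
    have hc'o : c' ≠ o := fun e => hbc (by
      have h1 := congrArg (fun w => u • w) e
      simp only [hc'def, ← mul_smul, sq_eq_one_of_orderOf huo, one_smul, huo'] at h1
      exact h1.symm)
    have hdc' : d • c' = c' := by
      have h2 : d * u = u * d⁻¹ := by
        calc d * u = (u * d * u⁻¹)⁻¹ * u := by rw [hu1, inv_inv]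
          _ = _ := by group
      rw [hc'def, ← mul_smul, h2, mul_smul, inv_smul_eq_iff.2 hdc.symm]
    obtain ⟨w, hwo, hw, hwc, -, hwinv⟩ := hswap c' hc'o
    have hw1 := hwinv d hdH hdc'
    set h := w * u * v with hh
    have hhH : h ∈ H := hfixo.1 (by rw [hh, mul_smul, mul_smul, hvo', ← hc'def, hwc])
    have hhd : h * d * h⁻¹ = d⁻¹ := by
      calc h * d * h⁻¹ = w * (u * (v * d * v⁻¹) * u⁻¹) * w⁻¹ := by rw [hh]; group
        _ = w * (u * d * u⁻¹)⁻¹ * w⁻¹ := by rw [hv1]; group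
        _ = w * d * w⁻¹ := by rw [hu1, inv_inv]
        _ = d⁻¹ := hw1
    have h1 := hcomm h hhH d hdH
    rw [hhd] at h1
    have hdd : d⁻¹ * d⁻¹ = 1 := by
      refine T.eq_one_of_fix (v := u) (fun huH => hb ?_) h1 ?_
      · rw [← huo', hfixo.2 huH]
      · have h2 : u⁻¹ * (d⁻¹ * d⁻¹) * u = d * d := by
          have h3 : u⁻¹ = u := inv_eq_of_mul_eq_one_right (sq_eq_one_of_orderOf huo)
          calc u⁻¹ * (d⁻¹ * d⁻¹) * u = u * (d⁻¹ * d⁻¹) * u⁻¹ := by rw [h3]
            _ = (u * d * u⁻¹)⁻¹ * (u * d * u⁻¹)⁻¹ := by group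
            _ = d * d := by rw [hu1, inv_inv]
        rw [h2]
        exact mul_mem hdH hdH
    have hd2 : d * d = 1 := by
      have := congrArg (·⁻¹) hdd
      simpa using this
    exact hd1 (T.eq_one_of_fix (v := u) (fun huH => hb (by rw [← huo', hfixo.2 huH]))
      (T.mem_of_isTwo hdH (isTwo_of_sq hd2))
      (by
        have h3 : u⁻¹ = u := inv_eq_of_mul_eq_one_right (sq_eq_one_of_orderOf huo)
        rw [show u⁻¹ * d * u = u * d * u⁻¹ by rw [h3], hu1]
        exact inv_mem hdH))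
  have htrans : ∀ a : G ⧸ H, ∃ g : G, g • o = a := fun a =>
    ⟨a.out, by rw [ho, MulAction.Quotient.smul_mk, smul_eq_mul, mul_one]; exact QuotientGroup.out_eq' a⟩
  -- transitivity of `H` on the other points
  have hHtr : ∀ b c : G ⧸ H, b ≠ o → c ≠ o → ∃ g ∈ H, g • b = c := by
    intro b c hb hc'
    obtain ⟨-, -, -, -, hDb, -⟩ := hswap b hb
    obtain ⟨-, -, -, -, hDc, -⟩ := hswap c hc'
    set Db := (H ⊓ MulAction.stabilizer G b).subgroupOf H
    set Dc := (H ⊓ MulAction.stabilizer G c).subgroupOf H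
    have hb' : Nat.card Db = p := by
      rw [Nat.card_congr (Subgroup.subgroupOfEquivOfLe inf_le_left).toEquiv, hDb]
    have hc'' : Nat.card Dc = p := by
      rw [Nat.card_congr (Subgroup.subgroupOfEquivOfLe inf_le_left).toEquiv, hDc]
    obtain ⟨P, hP⟩ := (IsPGroup.of_card (n := 1) (by rw [hb', pow_one])).exists_le_sylow
    obtain ⟨Q, hQ'⟩ := (IsPGroup.of_card (n := 1) (by rw [hc'', pow_one])).exists_le_sylow
    have hcardP : ∀ P : Sylow p H, Nat.card P = p := fun P => by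
      haveI : Fact (Nat.Prime 2) := ⟨Nat.prime_two⟩
      obtain ⟨n, hn⟩ := T.full.1.exists_card_eq
      rw [Sylow.card_eq_multiplicity, hH, hn]
      rw [Nat.factorization_mul (pow_ne_zero n two_ne_zero) hp.ne_zero, Finsupp.add_apply,
        hp.factorization_self, Nat.Prime.factorization_pow Nat.prime_two,
        Finsupp.single_eq_of_ne (Ne.symm hp2.symm), zero_add, pow_one]
    have hPe : Db = P := Subgroup.eq_of_le_of_card_ge hP (by rw [hb']; exact (hcardP P).le)
    have hQe : Dc = Q := Subgroup.eq_of_le_of_card_ge hQ' (by rw [hc'']; exact (hcardP Q).le)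
    obtain ⟨g, hg⟩ := MulAction.exists_smul_eq H P Q
    refine ⟨g, g.2, ?_⟩
    by_contra hne
    have hgbo : (g : G) • b ≠ o := fun e => hb (by
      have := congrArg (fun w => (g : G)⁻¹ • w) e
      simp only [inv_smul_smul] at this
      rw [this, hfixo.2 (inv_mem g.2)])
    haveI : Nontrivial (H ⊓ MulAction.stabilizer G c : Subgroup G) :=
      Finite.one_lt_card_iff_nontrivial.1 (hDc ▸ hp.one_lt)
    obtain ⟨d, hd⟩ := exists_ne (1 : ↥(H ⊓ MulAction.stabilizer G c))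
    have hdQ : (⟨d, d.2.1⟩ : H) ∈ (Q : Subgroup H) := hQe ▸ Subgroup.mem_subgroupOf.2 d.2
    rw [← hg, Sylow.coe_subgroup_smul, Subgroup.mem_pointwise_smul_iff_inv_smul_mem] at hdQ
    have hdb : ((g : G)⁻¹ * d * g) • b = b := by
      have h1 := Subgroup.mem_subgroupOf.1 (hPe.symm ▸ hdQ : _ ∈ Db)
      have h2 : (((MulAut.conj g)⁻¹ • (⟨d, d.2.1⟩ : H) : H) : G) = (g : G)⁻¹ * d * g := by
        simp [MulAut.smul_def, MulAut.conj_inv_apply]
      rw [h2] at h1
      exact h1.2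
    refine hd (Subtype.ext (hthree (d : G) _ c hgbo hc' hne (hfixo.2 d.2.1) ?_ d.2.2))
    rw [mul_smul, mul_smul] at hdb
    exact inv_smul_eq_iff.1 hdb
  have h2t : MulAction.IsMultiplyPretransitive G (G ⧸ H) 2 := by
    rw [MulAction.is_two_pretransitive_iff]
    intro a b c d hab hcd
    obtain ⟨g₁, rfl⟩ := htrans a
    obtain ⟨g₂, rfl⟩ := htrans c
    have hb : g₁⁻¹ • b ≠ o := fun e => hab (by rw [← e, smul_inv_smul])
    have hd : g₂⁻¹ • d ≠ o := fun e => hcd (by rw [← e, smul_inv_smul])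
    obtain ⟨h, hh, hhb⟩ := hHtr _ _ hb hd
    refine ⟨g₂ * h * g₁⁻¹, ?_, ?_⟩
    · rw [mul_smul, mul_smul, inv_smul_smul, hfixo.2 hh]
    · rw [mul_smul, mul_smul, hhb, smul_inv_smul]
  obtain ⟨g₀, -, hg₀⟩ := SetLike.exists_of_lt (lt_top_iff_ne_top.2 T.ntop)
  have hco : (QuotientGroup.mk g₀ : G ⧸ H) ≠ o := fun e => hg₀ (by
    have := QuotientGroup.eq.1 e
    simpa using this)
  refine ⟨?_, h2t, ?_, ?_, ?_⟩
  · have hker : (MulAction.toPermHom G (G ⧸ H)).ker = ⊥ := by
      refine (MulAction.toPermHom G (G ⧸ H)).normal_ker.eq_bot_or_eq_top.resolve_right fun e => ?_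
      refine hg₀ (hfixo.1 ?_)
      have h1 : MulAction.toPermHom G (G ⧸ H) g₀ = 1 := MonoidHom.mem_ker.1 (e ▸ Subgroup.mem_top g₀)
      exact Equiv.congr_fun h1 o
    refine ⟨fun {g g'} h => (MonoidHom.ker_eq_bot_iff _).1 hker (Equiv.ext h)⟩
  · intro g a b c hab hbc hac hga hgb hgc
    obtain ⟨k, rfl⟩ := htrans a
    have key : ∀ w : G ⧸ H, g • w = w → (k⁻¹ * g * k) • (k⁻¹ • w) = k⁻¹ • w := fun w hw => by
      rw [mul_smul, mul_smul, smul_inv_smul, hw]
    have := hthree (k⁻¹ * g * k) (k⁻¹ • b) (k⁻¹ • c)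
      (fun e => hab (by rw [← e, smul_inv_smul]))
      (fun e => hac (by rw [← e, smul_inv_smul]))
      (fun e => hbc (by simpa using e)) (by simpa using key _ hga) (key b hgb) (key c hgc)
    have h2 := congrArg (fun w => k * w * k⁻¹) this
    simpa [mul_assoc] using h2
  · obtain ⟨u, huo, hu, huc, hD, -⟩ := hswap _ hco
    haveI : Nontrivial (H ⊓ MulAction.stabilizer G (QuotientGroup.mk g₀ : G ⧸ H) : Subgroup G) :=
      Finite.one_lt_card_iff_nontrivial.1 (hD ▸ hp.one_lt)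
    obtain ⟨d, hd⟩ := exists_ne (1 : ↥(H ⊓ MulAction.stabilizer G (QuotientGroup.mk g₀ : G ⧸ H)))
    exact ⟨d, fun e => hd (Subtype.ext e), o, _, hco.symm, hfixo.2 d.2.1, d.2.2⟩
  · intro N hN hNt
    refine ⟨o, fun e => ?_⟩
    haveI := hNt
    rcases hN.eq_bot_or_eq_top with rfl | rfl
    · obtain ⟨⟨x, hx⟩, hxo⟩ := hNt.exists_smul_eq o (QuotientGroup.mk g₀)
      rw [Subgroup.mem_bot] at hx
      subst hx
      exact hco (by simpa using hxo.symm)
    · obtain ⟨t, ht, hto⟩ := exists_involution T.full.1 T.ne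
      have : (⟨t, Subgroup.mem_top t⟩ : (⊤ : Subgroup G)) ∈
          MulAction.stabilizer (⊤ : Subgroup G) o := hfixo.2 (T.le ht)
      replace this := Subgroup.mem_bot.1 (e.le this)
      rw [show t = 1 from congrArg Subtype.val this, orderOf_one] at hto
      omega

end TIData

theorem not_isSuzuki (hc : Ctx G) : ¬ Cfsg.IsSuzuki G := by
  rintro ⟨-, m, -, hm⟩
  refine hc.hyp.not_five_dvd (hm ▸ ?_)
  refine dvd_mul_of_dvd_left (dvd_mul_of_dvd_right ?_ _) _
  have h4 : (2 ^ (2 * m + 1)) ^ 2 = 4 * 16 ^ m := by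
    rw [← pow_mul, show (16 : ℕ) = 2 ^ 4 from rfl, show (4 : ℕ) = 2 ^ 2 from rfl, ← pow_mul,
      ← pow_add]
    ring_nf
  rw [h4, Nat.dvd_iff_mod_eq_zero, Nat.add_mod, Nat.mul_mod, Nat.pow_mod]
  simp

/-- A minimal counterexample is a projective special linear group of degree two. -/
theorem isPSLTwo_of_ctx (hc : Ctx G) : IsPSLTwo G := by
  by_cases hsf : SmallFour G
  · exact isPSLTwo_of_smallFour hc hsf
  · obtain ⟨S, H, T⟩ := exists_tiData hc hsf
    haveI := hc.simple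
    rcases Cfsg.Agent.S0340.result (T.isZassenhausGroup hc) with ⟨F, i, j, h⟩ | h
    · exact ⟨F, i, j, h⟩
    · exact absurd h (not_isSuzuki hc)

end CfsgLib.Recog.EPPOTwo
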